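import Cfsg.Agent.Lib.Grp.ClassLinear.GroupBound
import Cfsg.Agent.Lib.Char.DihBlockSolvable
import Cfsg.Agent.Lib.Char.FongBlock
import Cfsg.Agent.Lib.Char.FongCores
import Cfsg.Agent.Lib.Char.FongReynolds
import Cfsg.Agent.S4436

/-!
# The number of characters in a block of a solvable group
-/

set_option autoImplicit false
set_option linter.style.haveILetI false

universe u

namespace Cfsg.Agent.ClassLinear

open Cfsg Cfsg.Agent.Block Cfsg.Agent.Char Cfsg.Agent.Char.BP

variable {G : Type u} [Group G] [Fintype G]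

/-- Over an invariant character there are at most as many characters as classes of the quotient. -/
theorem ncard_over_le (K : Subgroup G) [K.Normal] [Fintype K] {θ : IrrCharacter K}
    (hinv : Fong.Fixed K θ) (B : Set (IrrCharacter G))
    (hover : ∀ χ ∈ B, classInner (fun n : K => (χ : G → ℂ) n) (θ : K → ℂ) ≠ 0) :
    B.ncard ≤ Nat.card (ConjClasses (G ⧸ K)) := by
  classical
  letI : Fintype (ConjClasses (G ⧸ K)) := Fintype.ofFinite _
  have hrep : ∀ C : ConjClasses (G ⧸ K), ∃ h : G, ConjClasses.mk (QuotientGroup.mk h : G ⧸ K) = C :=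
    fun C => by
      obtain ⟨q, rfl⟩ := ConjClasses.mk_surjective C
      obtain ⟨h, rfl⟩ := QuotientGroup.mk_surjective q
      exact ⟨h, rfl⟩
  choose rep hrep using hrep
  let cl : G → ConjClasses (G ⧸ K) := fun g => ConjClasses.mk (QuotientGroup.mk g : G ⧸ K)
  have hconj : ∀ g : G, ∃ x : G, x * g * x⁻¹ * (rep (cl g))⁻¹ ∈ K := by
    intro g
    obtain ⟨y, hy⟩ := isConj_iff.mp (ConjClasses.mk_eq_mk_iff_isConj.mp (hrep (cl g)).symm)
    obtain ⟨x, rfl⟩ := QuotientGroup.mk_surjective y
    refine ⟨x, (QuotientGroup.eq_one_iff _).mp ?_⟩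
    rw [QuotientGroup.mk_mul, QuotientGroup.mk_mul, QuotientGroup.mk_mul, QuotientGroup.mk_inv,
      QuotientGroup.mk_inv, hy, mul_inv_cancel]
  choose xx hxx using hconj
  choose η hη using fun C => DihBlk.proportional K hinv (rep C)
  let F : ConjClasses (G ⧸ K) → (G → ℂ) := fun C g =>
    if cl g = C then η C (xx g * g * (xx g)⁻¹) else 0
  have hsub : Submodule.span ℂ (Set.range fun χ : B => ((χ : IrrCharacter G) : G → ℂ)) ≤
      Submodule.span ℂ (Set.range F) := by
    refine Submodule.span_le.2 ?_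
    rintro _ ⟨⟨χ, hχ⟩, rfl⟩
    choose c hc using fun C => hη C χ (hover χ hχ)
    have e : (χ : G → ℂ) = ∑ C, c C • F C := by
      funext g
      rw [Finset.sum_apply, Finset.sum_eq_single (cl g)
        (fun C _ hne => by simp [F, Ne.symm hne]) (fun hn => absurd (Finset.mem_univ _) hn)]
      simp only [Pi.smul_apply, smul_eq_mul, F, if_true]
      have h1 := hc (cl g) _ (hxx g)
      rw [inv_mul_cancel_right, irr_classFun χ g (xx g)] at h1
      exact h1
    show (χ : G → ℂ) ∈ _
    rw [e]
    exact Submodule.sum_mem _ fun C _ => Submodule.smul_mem _ _ (Submodule.subset_span ⟨C, rfl⟩)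
  have hli : LinearIndependent ℂ (fun χ : B => ((χ : IrrCharacter G) : G → ℂ)) :=
    irrCharacter_linearIndependent.comp _ Subtype.val_injective
  haveI : Fintype B := Fintype.ofFinite B
  rw [← Nat.card_coe_set_eq, Nat.card_eq_fintype_card, ← finrank_span_eq_card hli,
    Nat.card_eq_fintype_card]
  exact (Submodule.finrank_mono hsub).trans (finrank_range_le_card F)

variable {p : ℕ} {M : Ideal AlgInt}

omit [Fintype G] in
/-- The bound with induction on the order. -/
theorem ncard_block_le [Fact p.Prime] (hM : IsPModular p M) :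
    ∀ (m : ℕ) (G : Type u) [Group G] [Fintype G], Nat.card G = m → Group.IsSolvable G →
      ∀ (B : Set (IrrCharacter G)), IsPBlock M B → ∀ D : Subgroup G, IsDefectGroup p M B D →
      ∀ d, 1 ≤ d → Nat.card D ≤ p ^ d → B.ncard ≤ 3 ^ (d - 1) * p ^ d := by
  intro m
  induction m using Nat.strong_induction_on with
  | _ m ih =>
    intro G _ _ hm hsol B hB D hD d hd hDd
    classical
    haveI := hsol
    have hsolv := Fus.TransOdd.isPSolvable_of_solvable (Fact.out : p.Prime) _ G rfl hsol
    haveI := Grp.pPrimeCore_isNormal (p := p) (G := G)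
    haveI := Fong.pPrimePCore_normal (p := p) (G := G)
    set K := Cfsg.pPrimeCore p G with hKdef
    letI : Fintype K := Fintype.ofFinite _
    letI : Fintype (Cfsg.pPrimePCore p G) := Fintype.ofFinite _
    have hcop : ¬ p ∣ Nat.card K := Grp.pPrimeCore_not_dvd
    obtain ⟨χ, hχ⟩ := pblock_nonempty hM hB
    obtain ⟨θ, hθ⟩ := IsChar.exists_constituent' (IsChar.res (irr_isChar χ) K)
      (show (χ : G → ℂ) ((1 : K) : G) ≠ 0 by simpa using irr_one_ne_zero χ)
    by_cases hTtop : inertia K (θ : K → ℂ) = ⊤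
    · have hinv : Fong.Fixed K θ := fun g m =>
        congrFun ((mem_inertia K).mp (hTtop ▸ Subgroup.mem_top g)) m
      obtain ⟨Q, hQp, hQL, hQ⟩ := Fong.exists_sylow_pPrimePCore (p := p) (G := G)
      obtain ⟨j, hj⟩ := Fong.exists_relIndex_pPrimePCore (p := p) (G := G)
      obtain ⟨B₀, hB₀, hmem, -, hdef⟩ := Fong.block_over (Cfsg.pPrimePCore p G) Q hM
        Fong.pPrimeCore_le_pPrimePCore hQL hQp hcop hj hinv
        fun x hx hr => Fong.mem_pPrimeCore_of_commute hsolv hQL hQ hx hr
      have hBeq : B = B₀ := by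
        rw [pblock_eq_blockOf hM hB hχ, pblock_eq_blockOf hM hB₀ ((hmem χ).mpr hθ)]
      obtain ⟨S, rfl⟩ := hdef D (hBeq ▸ hD)
      refine (ncard_over_le K hinv B fun ψ hψ => (hmem ψ).1 (hBeq ▸ hψ)).trans ?_
      haveI : Finite (G ⧸ K) := inferInstance
      haveI : Group.IsSolvable (G ⧸ K) := Group.isSolvable_of_surjective (QuotientGroup.mk'_surjective K)
      refine classes_noCore (p := p) PPartDerived.pPrimeCore_quotient_eq_bot hd ?_
      rw [S.card_eq_multiplicity] at hDd
      refine le_trans ?_ ((Nat.pow_le_pow_iff_right (Fact.out : p.Prime).one_lt).mp hDd)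
      exact (Nat.factorization_le_iff_dvd Nat.card_pos.ne' Nat.card_pos.ne').mpr
        K.card_quotient_dvd_card p
    · set T := inertia K (θ : K → ℂ) with hTdef
      have hKT : K ≤ T := le_inertia K (IsIrr.classFun θ.2)
      letI : Fintype T := Fintype.ofFinite _
      have hb : IsPBlock M ({θ} : Set (IrrCharacter K)) := Fong.isPBlock_singleton hM hcop θ
      have hT : FR.IsStab K ({θ} : Set (IrrCharacter K)) T := by
        intro g
        rw [hTdef, mem_inertia]
        constructor
        · rintro hg η hη η' hη'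
          obtain rfl : η = θ := hη
          exact Subtype.ext (funext fun m => (hη' m).trans (congrFun hg m))
        · intro h
          have h1 : (⟨_, IsIrr.conjN K θ.2 g⟩ : IrrCharacter K) ∈
              ({θ} : Set (IrrCharacter K)) := h θ rfl _ fun m => rfl
          exact congrArg Subtype.val (Set.mem_singleton_iff.mp h1)
      obtain ⟨η, hη, hindχ, -, -⟩ := FR.corr hM hb hT hKT rfl hθ
      have hcov : ∃ ψ ∈ blockOf M (η : T → ℂ), ∃ θ' ∈ ({θ} : Set (IrrCharacter K)),
          classInner (fun n : K => (ψ : T → ℂ) ⟨(n : G), hKT n.2⟩) (θ' : K → ℂ) ≠ 0 :=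
        ⟨η, mem_blockOf_self hM η, θ, rfl, hη⟩
      obtain ⟨-, C, hC, hmemC, -⟩ := FR.induced hM hb hT hKT (isPBlock_blockOf η) hcov
      have hχC : χ ∈ C := (hmemC χ).mpr ⟨η, mem_blockOf_self hM η, hindχ.symm⟩
      have hBC : C = B := by
        rw [pblock_eq_blockOf hM hB hχ, pblock_eq_blockOf hM hC.2.1 hχC]
      rw [hBC] at hC hmemC
      obtain ⟨hdef, -⟩ := Cfsg.Agent.S4436.result p M hM K _ hb T hT hKT _ (isPBlock_blockOf η)
        hcov B hC
      obtain ⟨E, hE⟩ := exists_isDefectGroup hM (isPBlock_blockOf η)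
      obtain ⟨v, hv⟩ := defectGroup_conj hM hB (hdef E hE) hD
      have hlt : Nat.card T < m := hm ▸ lt_of_le_of_ne (Subgroup.card_le_card_group T)
        (fun h => hTtop (Subgroup.eq_top_of_card_eq T h))
      let e : E ≃* D := ((E.equivMapOfInjective T.subtype Subtype.coe_injective).trans
        ((E.map T.subtype).equivMapOfInjective (MulAut.conj v).toMonoidHom
          (MulAut.conj v).injective)).trans (MulEquiv.subgroupCongr hv)
      refine le_trans ?_ (ih _ hlt T rfl inferInstance _ (isPBlock_blockOf η) E hE d hd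
        (by rw [Nat.card_congr e.toEquiv]; exact hDd))
      have hpick : ∀ ψ : B, ∃ ξ : blockOf M (η : T → ℂ),
          ((ψ : IrrCharacter G) : G → ℂ) = indFun T ((ξ : IrrCharacter T) : T → ℂ) := fun ψ => by
        obtain ⟨ξ, hξ, e⟩ := (hmemC ψ).1 ψ.2
        exact ⟨⟨ξ, hξ⟩, e⟩
      choose pick hpick using hpick
      rw [← Nat.card_coe_set_eq, ← Nat.card_coe_set_eq]
      exact Nat.card_le_card_of_injective pick fun a b h =>
        Subtype.ext (Subtype.ext (by rw [hpick a, hpick b, h]))

end Cfsg.Agent.ClassLinear
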