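import Cfsg.Agent.Lib.Grp.SqClass.PrimBound

/-!
# Commuting probability of solvable linear groups with a large central cyclic subgroup

If a solvable irreducible group on `V` has a central element of order `N ≥ 63` whose nontrivial
powers have no fixed vector, then `|A| ≤ C * k(A)` with `9 * C ≤ 16 ^ d` and `(N + 1) ^ d ≤ |V|`.
-/

set_option autoImplicit false
set_option linter.style.haveILetI false

universe u

namespace Cfsg.Agent.ClassLinear

open SqClass BaseTwo

/-- A central element of order `N` whose nontrivial powers fix no nonzero vector. -/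
def HasCentral {V : Type u} [AddCommGroup V] (A : Subgroup (AddMonoid.End V)ˣ) (N : ℕ) : Prop :=
  ∃ z ∈ Subgroup.center A, orderOf z = N ∧ ∀ k : ℕ, z ^ k ≠ 1 → ∀ v : V, v ≠ 0 → z ^ k • v ≠ v

theorem le_four_pow : ∀ f : ℕ, f + 1 ≤ 4 ^ f
  | 0 => le_rfl
  | f + 1 => by have := le_four_pow f; rw [pow_succ]; omega

/-- Multiplying by the square of a Galois degree. -/
theorem crit_galois {f e dK C : ℕ} (hf : 1 ≤ f) (he : 1 ≤ e) (hed : e ≤ dK)
    (hC : 9 * C ≤ 16 ^ e) : 9 * (C * (f * f)) ≤ 16 ^ (f * dK) := by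
  obtain ⟨f, rfl⟩ := Nat.exists_eq_add_of_le' hf
  have h1 : (f + 1) * (f + 1) ≤ 16 ^ f := by
    calc (f + 1) * (f + 1) ≤ 4 ^ f * 4 ^ f := Nat.mul_le_mul (le_four_pow f) (le_four_pow f)
      _ = 16 ^ f := by rw [← mul_pow]; norm_num
  have h2 : f + e ≤ (f + 1) * dK := by
    calc f + e ≤ f * e + e := Nat.add_le_add_right (Nat.le_mul_of_pos_right f he) e
      _ = (f + 1) * e := by ring
      _ ≤ (f + 1) * dK := Nat.mul_le_mul_left _ hed
  calc 9 * (C * ((f + 1) * (f + 1))) = ((f + 1) * (f + 1)) * (9 * C) := by ring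
    _ ≤ 16 ^ f * 16 ^ e := Nat.mul_le_mul h1 hC
    _ = 16 ^ (f + e) := (pow_add _ _ _).symm
    _ ≤ _ := Nat.pow_le_pow_right (by norm_num) h2

theorem layer_crit_large {e X : ℕ} (he : 8 ≤ e) (hX : 5 * X ≤ (e * e) ^ 4) : 9 * X ≤ 16 ^ e := by
  have key : ∀ m, 8 ≤ m → 9 * (m * m) ^ 4 ≤ 5 * 16 ^ m := by
    intro m hm
    induction m, hm using Nat.le_induction with
    | base => norm_num
    | succ m hm ih =>
      have h1 : 5 * ((m + 1) * (m + 1)) ≤ 8 * (m * m) := by nlinarith
      have h2 : (5 * ((m + 1) * (m + 1))) ^ 4 ≤ (8 * (m * m)) ^ 4 := Nat.pow_le_pow_left h1 4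
      have h3 : 625 * ((m + 1) * (m + 1)) ^ 4 ≤ 4096 * (m * m) ^ 4 := by
        calc 625 * ((m + 1) * (m + 1)) ^ 4 = (5 * ((m + 1) * (m + 1))) ^ 4 := by ring
          _ ≤ (8 * (m * m)) ^ 4 := h2
          _ = _ := by ring
      rw [pow_succ (16 : ℕ) m]
      omega
  have := key e he
  omega

variable {V : Type u} [AddCommGroup V] [Finite V]

/-- The Galois degree and the dimension over the field. -/
theorem prim_data {A : Subgroup (AddMonoid.End V)ˣ} [Nontrivial V]
    {N p a : ℕ} (P : Prim A V p a) {z : A} (hzc : z ∈ Subgroup.center A) (hzZ : z ∈ P.Z)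
    (hz : orderOf z = N) :
    letI := P.fld; letI := P.mod
    1 ≤ (Subgroup.centralizer (P.Z : Set A)).index ∧ 1 ≤ Module.finrank P.K V ∧
      (N + 1) ^ ((Subgroup.centralizer (P.Z : Set A)).index * Module.finrank P.K V) ≤ Nat.card V := by
  classical
  haveI : FaithfulSMul A V := ⟨fun {a b} h => Subtype.ext (Units.ext (AddMonoidHom.ext h))⟩
  haveI : Finite A := Finite.of_injective _ Subtype.val_injective
  letI := P.fld; haveI := P.fin; letI := P.mod; haveI := P.normal
  let D := P.D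
  let Γ : Subgroup (RingAut P.K) := D.σ.range
  haveI : Finite (RingAut P.K) :=
    Finite.of_injective (fun e : RingAut P.K => (e : P.K → P.K)) DFunLike.coe_injective
  haveI := Fintype.ofFinite Γ
  -- the scalar of the central element is fixed
  let lam : P.K := (D.ι ⟨z, hzZ⟩ : P.Kˣ)
  have hlam : ∀ (g : A), D.σ g lam = lam := by
    intro g
    obtain ⟨v, hv⟩ := exists_ne (0 : V)
    refine smul_left_injective P.K (fun h0 => hv (MulAction.injective g (h0.trans (smul_zero g).symm))) ?_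
    show D.σ g lam • (g • v) = lam • (g • v)
    rw [← D.semilinear]
    show g • ((D.ι ⟨z, hzZ⟩ : P.Kˣ) : P.K) • v = ((D.ι ⟨z, hzZ⟩ : P.Kˣ) : P.K) • g • v
    rw [← D.scalar, ← D.scalar, ← mul_smul, ← mul_smul]
    exact congrArg (· • v) (Subgroup.mem_center_iff.mp hzc g)
  have hord : orderOf lam = N := by
    rw [orderOf_units, orderOf_injective D.ι D.ι_injective, ← hz]
    exact (Subgroup.orderOf_coe _).symm
  let F := FixedPoints.subfield Γ P.K
  have hlamF : lam ∈ F := by
    rintro ⟨σ, g, rfl⟩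
    exact hlam g
  have hF : N + 1 ≤ Nat.card F := by
    let f : Option (Fin N) → F := fun i => match i with
      | none => 0
      | some i => ⟨lam ^ (i : ℕ), pow_mem hlamF _⟩
    have hf : Function.Injective f := by
      have hne : ∀ i : ℕ, lam ^ i ≠ 0 := fun i => pow_ne_zero _ (Units.ne_zero _)
      rintro (_ | i) (_ | j) h
      · rfl
      · exact absurd (congrArg Subtype.val h).symm (hne j)
      · exact absurd (congrArg Subtype.val h) (hne i)
      · refine congrArg some (Fin.ext (pow_injOn_Iio_orderOf ?_ ?_ (congrArg Subtype.val h)))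
        · rw [Set.mem_Iio, hord]; exact i.2
        · rw [Set.mem_Iio, hord]; exact j.2
    have := Nat.card_le_card_of_injective f hf
    simpa using this
  have hfin : Module.finrank F P.K = Nat.card Γ := by
    rw [FixedPoints.finrank_eq_card, Nat.card_eq_fintype_card]
  have hidx : (Subgroup.centralizer (P.Z : Set A)).index = Nat.card Γ := by
    rw [← D.ker_eq, Subgroup.index_ker]
  set f := Nat.card Γ with hf
  have hf1 : 1 ≤ f := Nat.card_pos
  haveI : FiniteDimensional P.K V := Module.Finite.of_finite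
  set dK := Module.finrank P.K V with hdK
  have hdK1 : 1 ≤ dK := Module.finrank_pos
  haveI : Module.Finite F P.K := Module.Finite.of_finite
  have hV : (N + 1) ^ (f * dK) ≤ Nat.card V := by
    rw [Module.natCard_eq_pow_finrank (K := P.K) (V := V), ← hdK,
      Module.natCard_eq_pow_finrank (K := F) (V := P.K), hfin, ← pow_mul]
    exact Nat.pow_le_pow_left hF _
  exact ⟨hidx ▸ hf1, hdK1, hidx ▸ hV⟩

/-- The field case. -/
theorem prim_case {A : Subgroup (AddMonoid.End V)ˣ} [Nontrivial V] (hsol : Group.IsSolvable A)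
    {N p a : ℕ} (P : Prim A V p a) {z : A} (hzc : z ∈ Subgroup.center A) (hzZ : z ∈ P.Z)
    (hz : orderOf z = N) :
    ∃ C d, CPB A C ∧ 9 * C ≤ 16 ^ d ∧ (N + 1) ^ d ≤ Nat.card V := by
  classical
  haveI : FaithfulSMul A V := ⟨fun {a b} h => Subtype.ext (Units.ext (AddMonoidHom.ext h))⟩
  haveI : Finite A := Finite.of_injective _ Subtype.val_injective
  obtain ⟨hf1, hdK1, hV⟩ := prim_data P hzc hzZ hz
  letI := P.fld; haveI := P.fin; letI := P.mod; haveI := P.normal
  set f := (Subgroup.centralizer (P.Z : Set A)).index with hf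
  set dK := Module.finrank P.K V with hdK
  have hflat : ∀ C₀, CPB (Subgroup.centralizer (P.Z : Set A)) C₀ → CPB A (C₀ * (f * f)) :=
    fun C₀ h => cpb_of_subgroup_le _ h le_rfl
  rcases P.layer with hZC | ⟨⟨L⟩⟩
  · refine ⟨1 * (f * f), f * dK, hflat 1 (cpb_of_comm fun x y => Subtype.ext ?_), ?_, hV⟩
    · exact P.comm x (hZC.ge x.2) y (hZC.ge y.2)
    · exact crit_galois hf1 le_rfl hdK1 (by norm_num)
  · obtain ⟨e, he⟩ := exists_card_eq_sq L.b L.alt L.nd
    have hed : e ≤ dK := Nat.mul_self_le_mul_self_iff.mp (by rw [← he]; exact L.card_W_le)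
    have hW1 := L.one_lt_card
    have he2 : 2 ≤ e := by
      by_contra h
      interval_cases e <;> omega
    refine ⟨(Nat.card L.W * Nat.card L.S) * (f * f), f * dK, hflat _ L.cpb_index, ?_, hV⟩
    refine crit_galois hf1 (by omega) hed ?_
    rcases Nat.lt_or_ge e 8 with h8 | h8
    · have hs := L.bound_small hsol he (by omega)
      generalize Nat.card L.W * Nat.card L.S = X at hs ⊢
      interval_cases e <;> norm_num at hs ⊢ <;> omega
    · refine layer_crit_large h8 ?_
      have h5 := L.five hsol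
      calc 5 * (Nat.card L.W * Nat.card L.S) = Nat.card L.W * (5 * Nat.card L.S) := by ring
        _ ≤ Nat.card L.W * Nat.card L.W ^ 3 := Nat.mul_le_mul_left _ h5
        _ = (e * e) ^ 4 := by rw [he]; ring

theorem sq_le_nine {n T : ℕ} (hT : T ^ 3 ≤ 24 ^ n) : T * T ≤ 9 ^ n := by
  refine le_of_pow_le_pow_left₀ (n := 3) (by norm_num) (Nat.zero_le _) ?_
  calc (T * T) ^ 3 = (T ^ 3) ^ 2 := by ring
    _ ≤ (24 ^ n) ^ 2 := Nat.pow_le_pow_left hT 2
    _ = 576 ^ n := by rw [← pow_mul, mul_comm, pow_mul]; norm_num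
    _ ≤ 729 ^ n := Nat.pow_le_pow_left (by norm_num) n
    _ = (9 ^ n) ^ 3 := by rw [← pow_mul, mul_comm, pow_mul]; norm_num

/-- The induction. -/
theorem bound_aux {N : ℕ} (hN : 63 ≤ N) : ∀ (m : ℕ) (V : Type u) [AddCommGroup V] [Finite V]
    [Nontrivial V] (A : Subgroup (AddMonoid.End V)ˣ), Nat.card V ≤ m → Group.IsSolvable A →
    IsIrr A V → HasCentral A N →
    ∃ C d, CPB A C ∧ 9 * C ≤ 16 ^ d ∧ (N + 1) ^ d ≤ Nat.card V := by
  intro m
  induction m with
  | zero => intro V _ _ _ A h; have : 0 < Nat.card V := Nat.card_pos; omega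
  | succ m IH =>
    intro V _ _ _ A hm hsol hirr hzA
    obtain ⟨z, hzc, hz, hfpf⟩ := hzA
    haveI : FaithfulSMul A V := ⟨fun {a b} h => Subtype.ext (Units.ext (AddMonoidHom.ext h))⟩
    obtain ⟨r, hr, hrV⟩ := BaseThree.exists_prime_nsmul_eq_zero hirr
    haveI := Fact.mk hr
    letI : Module (ZMod r) V := AddCommGroup.zmodModule (n := r) hrV
    obtain ⟨a, ha⟩ : ∃ a, Nat.card V = r ^ a := ⟨_, by
      rw [Module.natCard_eq_pow_finrank (K := ZMod r) (V := V), Nat.card_zmod]⟩
    rcases blocks_or_prim' A hsol hirr ha with ⟨D, hD⟩ | ⟨P, hP⟩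
    · obtain ⟨B, _, _, _, H, n, T, ⟨hHirr, hHsol, hn, hVB, hT, -, -, hcpb⟩, hcent, -⟩ :=
        exists_block_group' hirr hsol D
      obtain ⟨w, hwc, hw, hwf⟩ := hcent z hzc (hD z hzc) hfpf
      have hB2 : 2 ≤ Nat.card B := Finite.one_lt_card
      have hBlt : Nat.card B < Nat.card V := by
        rw [hVB]
        calc Nat.card B = Nat.card B ^ 1 := (pow_one _).symm
          _ < Nat.card B ^ n := Nat.pow_lt_pow_right hB2 hn
      obtain ⟨C, d, hC, hCd, hd⟩ :=
        IH B H (by omega) hHsol hHirr ⟨w, hwc, hw.trans hz, hwf⟩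
      refine ⟨C ^ n * (T * T), d * n, hcpb C hC, ?_, ?_⟩
      · calc 9 * (C ^ n * (T * T)) ≤ 9 * (C ^ n * 9 ^ (n - 1)) :=
              Nat.mul_le_mul_left _ (Nat.mul_le_mul_left _ (sq_le_nine hT))
          _ = 9 ^ (n - 1 + 1) * C ^ n := by rw [pow_succ]; ring
          _ = (9 * C) ^ n := by rw [Nat.sub_add_cancel (by omega), mul_pow]
          _ ≤ (16 ^ d) ^ n := Nat.pow_le_pow_left hCd n
          _ = 16 ^ (d * n) := (pow_mul _ _ _).symm
      · rw [hVB, pow_mul]
        exact Nat.pow_le_pow_left hd n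
    · exact prim_case hsol P hzc (hP hzc) hz

/-- The bound. -/
theorem bound [Nontrivial V] {N : ℕ} (hN : 63 ≤ N) (A : Subgroup (AddMonoid.End V)ˣ)
    (hsol : Group.IsSolvable A) (hirr : IsIrr A V) (hz : HasCentral A N) :
    ∃ C d, CPB A C ∧ 9 * C ≤ 16 ^ d ∧ (N + 1) ^ d ≤ Nat.card V :=
  bound_aux hN _ V A le_rfl hsol hirr hz

end Cfsg.Agent.ClassLinear
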