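import Cfsg.Agent.Lib.Grp.SqClass.Cpb
import Cfsg.Agent.Lib.Grp.Cores

/-!
# Class numbers of all subgroups
-/

set_option autoImplicit false
set_option linter.style.haveILetI false

namespace Cfsg.Agent.ClassLinear

open SqClass

/-- Every subgroup has at most `c` classes. -/
def SubK (A : Type*) [Group A] (c : ℕ) : Prop := ∀ X : Subgroup A, Nat.card (ConjClasses X) ≤ c

/-- Every subgroup of the quotient by the Fitting subgroup has at most `c` classes. -/
def QK (A : Type*) [Group A] (c : ℕ) : Prop :=
  ∀ hn : (Cfsg.fittingSubgroup A).Normal, haveI := hn; SubK (A ⧸ Cfsg.fittingSubgroup A) c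

variable {A B : Type*} [Group A] [Group B]

theorem card_classes_le [Finite A] : Nat.card (ConjClasses A) ≤ Nat.card A :=
  Nat.card_le_card_of_surjective _ ConjClasses.mk_surjective

/-- The number of commuting pairs with a given first entry. -/
theorem classes_mul_card [Fintype A] :
    Nat.card (ConjClasses A) * Nat.card A =
      ∑ a : A, Nat.card (Subgroup.centralizer ({a} : Set A)) := by
  rw [← card_comm_eq_card_conjClasses_mul_card, ← Nat.card_sigma]
  exact Nat.card_congr
    { toFun := fun p => ⟨p.1.1, p.1.2, Subgroup.mem_centralizer_singleton_iff.mpr p.2.eq.symm⟩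
      invFun := fun p => ⟨(p.1, p.2.1), (Subgroup.mem_centralizer_singleton_iff.mp p.2.2).symm⟩
      left_inv := fun p => rfl
      right_inv := fun p => rfl }

/-- Gallagher's inequality. -/
theorem classes_le_mul [Finite A] (N : Subgroup A) [N.Normal] :
    Nat.card (ConjClasses A) ≤ Nat.card (ConjClasses N) * Nat.card (ConjClasses (A ⧸ N)) := by
  classical
  letI := Fintype.ofFinite A
  haveI := Fintype.ofFinite N
  haveI := Fintype.ofFinite (A ⧸ N)
  set mk := QuotientGroup.mk' N
  -- pairs
  let T : (A ⧸ N) → Type _ := fun q => {p : A × N // mk p.1 = q ∧ Commute p.1 (p.2 : A)}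
  have hfib : ∀ q, Nat.card (T q) ≤ Nat.card (ConjClasses N) * Nat.card N := by
    intro q
    rw [← card_comm_eq_card_conjClasses_mul_card]
    let pick : N → A := fun n =>
      if h : ∃ a : A, mk a = q ∧ Commute a (n : A) then h.choose else 1
    have hpick : ∀ t : T q, mk (pick t.1.2) = q ∧ Commute (pick t.1.2) (t.1.2 : A) := fun t => by
      have hex : ∃ a : A, mk a = q ∧ Commute a (t.1.2 : A) := ⟨t.1.1, t.2⟩
      simp only [pick, dif_pos hex]
      exact hex.choose_spec
    have hmem : ∀ t : T q, (pick t.1.2)⁻¹ * t.1.1 ∈ N := fun t => by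
      rw [← QuotientGroup.eq_one_iff (N := N)]
      show mk _ = 1
      rw [map_mul, map_inv, (hpick t).1, t.2.1, inv_mul_cancel]
    refine Nat.card_le_card_of_injective (fun t => (⟨(⟨_, hmem t⟩, t.1.2),
      Subtype.ext ((((hpick t).2.inv_left).mul_left t.2.2).eq)⟩ : {p : N × N // Commute p.1 p.2})) ?_
    rintro ⟨⟨a, n⟩, ha⟩ ⟨⟨a', n'⟩, ha'⟩ h
    have h1 : n = n' := congrArg (fun p : {p : N × N // Commute p.1 p.2} => p.1.2) h
    subst h1
    have h2 : (pick n)⁻¹ * a = (pick n)⁻¹ * a' :=
      congrArg (fun p : {p : N × N // Commute p.1 p.2} => (p.1.1 : A)) h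
    exact Subtype.ext (Prod.ext (mul_left_cancel h2) rfl)
  let P := {p : A × A // Commute p.1 p.2}
  let Q := {p : (A ⧸ N) × (A ⧸ N) // Commute p.1 p.2}
  let f : P → Q := fun p => ⟨(mk p.1.1, mk p.1.2), p.2.map mk⟩
  have hf : ∀ q : Q, Nat.card {p : P // f p = q} ≤ Nat.card (T q.1.1) := by
    intro q
    let pick : A → A := fun a => if h : ∃ b : A, mk b = q.1.2 ∧ Commute a b then h.choose else 1
    have hpick : ∀ t : {p : P // f p = q}, mk (pick t.1.1.1) = q.1.2 ∧ Commute t.1.1.1 (pick t.1.1.1) := by
      intro t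
      have hex : ∃ b : A, mk b = q.1.2 ∧ Commute t.1.1.1 b :=
        ⟨t.1.1.2, congrArg (fun r : Q => r.1.2) t.2, t.1.2⟩
      simp only [pick, dif_pos hex]
      exact hex.choose_spec
    have hmem : ∀ t : {p : P // f p = q}, (pick t.1.1.1)⁻¹ * t.1.1.2 ∈ N := fun t => by
      rw [← QuotientGroup.eq_one_iff (N := N)]
      show mk _ = 1
      rw [map_mul, map_inv, (hpick t).1, show mk t.1.1.2 = q.1.2 from congrArg (fun r : Q => r.1.2) t.2,
        inv_mul_cancel]
    refine Nat.card_le_card_of_injective (fun t => (⟨(t.1.1.1, ⟨_, hmem t⟩),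
      congrArg (fun r : Q => r.1.1) t.2, ((hpick t).2.inv_right).mul_right t.1.2⟩ : T q.1.1)) ?_
    rintro ⟨⟨⟨a, b⟩, hab⟩, ht⟩ ⟨⟨⟨a', b'⟩, hab'⟩, ht'⟩ h
    have h1 : a = a' := congrArg (fun p : T q.1.1 => p.1.1) h
    subst h1
    have h2 : (pick a)⁻¹ * b = (pick a)⁻¹ * b' := congrArg (fun p : T q.1.1 => (p.1.2 : A)) h
    exact Subtype.ext (Subtype.ext (Prod.ext rfl (mul_left_cancel h2)))
  have hsum : Nat.card P ≤ Nat.card Q * (Nat.card (ConjClasses N) * Nat.card N) := by
    haveI := Fintype.ofFinite Q
    rw [Nat.card_congr (Equiv.sigmaFiberEquiv f).symm, Nat.card_sigma, Nat.card_eq_fintype_card (α := Q)]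
    calc ∑ q : Q, Nat.card {p : P // f p = q} ≤ ∑ _q : Q, Nat.card (ConjClasses N) * Nat.card N :=
          Finset.sum_le_sum fun q _ => (hf q).trans (hfib _)
      _ = _ := by rw [Finset.sum_const, Finset.card_univ, smul_eq_mul]
  refine Nat.le_of_mul_le_mul_right ?_ (Nat.card_pos (α := A))
  rw [← card_comm_eq_card_conjClasses_mul_card]
  refine hsum.trans (le_of_eq ?_)
  rw [card_comm_eq_card_conjClasses_mul_card, Subgroup.card_eq_card_quotient_mul_card_subgroup N]
  ring

/-- Few central elements and small centralisers give few classes. -/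
theorem classes_le_add [Finite A] {c z : ℕ} (S : Set A) (hS : S.ncard ≤ z)
    (hc : ∀ a ∉ S, Nat.card (Subgroup.centralizer ({a} : Set A)) ≤ c) :
    Nat.card (ConjClasses A) ≤ z + c := by
  classical
  letI := Fintype.ofFinite A
  refine Nat.le_of_mul_le_mul_right ?_ (Nat.card_pos (α := A))
  rw [classes_mul_card, add_mul, ← Finset.sum_filter_add_sum_filter_not Finset.univ (· ∈ S)]
  refine Nat.add_le_add ?_ ?_
  · calc ∑ a ∈ Finset.univ.filter (· ∈ S), Nat.card (Subgroup.centralizer ({a} : Set A))
        ≤ (Finset.univ.filter (· ∈ S)).card * Nat.card A := by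
          rw [← smul_eq_mul]
          exact Finset.sum_le_card_nsmul _ _ _ fun a _ => Subgroup.card_le_card_group _
      _ ≤ z * Nat.card A := by
          refine Nat.mul_le_mul_right _ (le_of_eq_of_le ?_ hS)
          rw [Set.ncard_eq_toFinset_card']
          exact congrArg _ (by ext; simp)
  · calc ∑ a ∈ Finset.univ.filter (fun a => ¬ a ∈ S), Nat.card (Subgroup.centralizer ({a} : Set A))
        ≤ (Finset.univ.filter (fun a => ¬ a ∈ S)).card * c := by
          rw [← smul_eq_mul]
          exact Finset.sum_le_card_nsmul _ _ _ fun a ha => hc a (Finset.mem_filter.mp ha).2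
      _ ≤ c * Nat.card A := by
          rw [mul_comm, Nat.card_eq_fintype_card]
          exact Nat.mul_le_mul_left _ (Finset.card_le_univ _)

theorem SubK.mono {c c' : ℕ} (h : SubK A c) (hc : c ≤ c') : SubK A c' := fun X => (h X).trans hc

theorem subK_of_card_le [Finite A] {c : ℕ} (h : Nat.card A ≤ c) : SubK A c := fun X =>
  card_classes_le.trans ((Subgroup.card_le_card_group X).trans h)

theorem SubK.of_injective {c : ℕ} (h : SubK B c) (f : A →* B) (hf : Function.Injective f) :
    SubK A c := fun X => by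
  rw [card_conjClasses_congr (X.equivMapOfInjective f hf)]
  exact h _

theorem SubK.of_surjective [Finite A] {c : ℕ} (h : SubK A c) (f : A →* B) (hf : Function.Surjective f) :
    SubK B c := fun Y => by
  refine le_trans ?_ (h (Y.comap f))
  refine Nat.card_le_card_of_surjective _ (ConjClasses.map_surjective (f := f.subgroupComap Y) ?_)
  rintro ⟨y, hy⟩
  obtain ⟨x, rfl⟩ := hf y
  exact ⟨⟨x, hy⟩, rfl⟩

theorem SubK.prod [Finite A] [Finite B] {a b : ℕ} (ha : SubK A a) (hb : SubK B b) :
    SubK (A × B) (a * b) := fun X => by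
  let f : X →* A := (MonoidHom.fst A B).comp X.subtype
  refine (classes_le_mul f.ker).trans ?_
  rw [mul_comm a b]
  refine Nat.mul_le_mul ?_ ?_
  · refine le_of_eq_of_le (card_conjClasses_congr (MonoidHom.ofInjective
      (f := (MonoidHom.snd A B).comp (X.subtype.comp f.ker.subtype)) ?_)) (hb _)
    intro x y e
    exact Subtype.ext (Subtype.ext (Prod.ext ((MonoidHom.mem_ker.mp x.2).trans (MonoidHom.mem_ker.mp y.2).symm) e))
  · exact le_of_eq_of_le (card_conjClasses_congr (QuotientGroup.quotientKerEquivRange f)) (ha _)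

theorem SubK.pow [Finite A] {a : ℕ} (ha : SubK A a) : ∀ n : ℕ, SubK (Fin n → A) (a ^ n)
  | 0 => subK_of_card_le (by simp)
  | n + 1 => by
    let f : (Fin (n + 1) → A) →* A × (Fin n → A) :=
      MonoidHom.mk' (fun g => (g 0, fun i => g i.succ)) fun g g' => rfl
    refine ((ha.prod (SubK.pow ha n)).of_injective f fun g g' e => funext fun i => ?_).mono
      (le_of_eq (by rw [pow_succ']))
    refine Fin.cases (congrArg Prod.fst e) (fun j => congrFun (congrArg Prod.snd e) j) i

/-- Extensions by a quotient of bounded order. -/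
theorem SubK.of_index [Finite A] {a T : ℕ} (N : Subgroup A) (h : SubK N a) (hT : N.index ≤ T) :
    SubK A (T * a) := fun X => by
  refine ((Cfsg.Agent.S4200.result (N.subgroupOf X)).2.1).trans (Nat.mul_le_mul ?_ ?_)
  · refine le_trans ?_ hT
    exact (Subgroup.relIndex_le_of_le_right le_top (by
      rw [Subgroup.relIndex_top_right]; exact Subgroup.index_ne_zero_of_finite)).trans
      (le_of_eq N.relIndex_top_right)
  · refine le_of_eq_of_le (card_conjClasses_congr (MonoidHom.ofInjective
      (f := ({ toFun := fun x => ⟨((x : X) : A), x.2⟩, map_one' := rfl, map_mul' := fun _ _ => rfl } :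
        N.subgroupOf X →* N)) ?_)) (h _)
    intro x y e
    exact Subtype.ext (Subtype.ext (congrArg (fun t : N => (t : A)) e))

/-- Nilpotency is inherited along an injective homomorphism. -/
theorem nilpotent_of_injective {H K : Type*} [Group H] [Group K] [Group.IsNilpotent K] (f : H →* K)
    (hf : Function.Injective f) : Group.IsNilpotent H :=
  Group.nilpotent_of_mulEquiv (MonoidHom.ofInjective hf).symm

theorem QK.mono {c c' : ℕ} (h : QK A c) (hc : c ≤ c') : QK A c' := fun hn => (h hn).mono hc

/-- A normal nilpotent subgroup lies in the Fitting subgroup. -/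
theorem qk_of_quotient [Finite A] (N : Subgroup A) [N.Normal] (hN : N ≤ Cfsg.fittingSubgroup A) {c : ℕ}
    (h : SubK (A ⧸ N) c) : QK A c := fun hn => by
  haveI := hn
  exact h.of_surjective (QuotientGroup.map N (Cfsg.fittingSubgroup A) (MonoidHom.id A) hN)
    fun x => by
      obtain ⟨a, rfl⟩ := QuotientGroup.mk_surjective x
      exact ⟨QuotientGroup.mk a, rfl⟩

/-- Bounding through a homomorphism with nilpotent kernel. -/
theorem qk_of_hom [Finite A] (f : A →* B) (hker : Group.IsNilpotent f.ker) {c : ℕ} (h : SubK B c) :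
    QK A c :=
  qk_of_quotient f.ker (Grp.le_fittingSubgroup inferInstance hker)
    (h.of_injective (QuotientGroup.kerLift f) (QuotientGroup.kerLift_injective f))

/-- Passing to a subgroup. -/
theorem QK.of_injective [Finite A] [Finite B] {c : ℕ} (h : QK B c) (f : A →* B)
    (hf : Function.Injective f) : QK A c := by
  haveI hn : (Cfsg.fittingSubgroup B).Normal := Grp.fittingSubgroup_isNormal
  refine qk_of_hom ((QuotientGroup.mk' (Cfsg.fittingSubgroup B)).comp f) ?_ (h hn)
  haveI := Grp.fittingSubgroup_isNilpotent (G := B)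
  exact nilpotent_of_injective
    ({ toFun := fun x => ⟨f x, (QuotientGroup.eq_one_iff _).mp x.2⟩
       map_one' := Subtype.ext (map_one f)
       map_mul' := fun x y => Subtype.ext (map_mul f _ _) } :
      ((QuotientGroup.mk' (Cfsg.fittingSubgroup B)).comp f).ker →* Cfsg.fittingSubgroup B)
    fun x y e => Subtype.ext (hf (congrArg Subtype.val e))

/-- Products. -/
theorem QK.prod [Finite A] [Finite B] {C : Type*} [Group C] [Finite C] {a b : ℕ} (ha : QK A a)
    (hb : QK B b) (f : C →* A × B) (hf : Function.Injective f) : QK C (a * b) := by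
  haveI hA : (Cfsg.fittingSubgroup A).Normal := Grp.fittingSubgroup_isNormal
  haveI hB : (Cfsg.fittingSubgroup B).Normal := Grp.fittingSubgroup_isNormal
  haveI := Grp.fittingSubgroup_isNilpotent (G := A)
  haveI := Grp.fittingSubgroup_isNilpotent (G := B)
  let g : C →* (A ⧸ Cfsg.fittingSubgroup A) × (B ⧸ Cfsg.fittingSubgroup B) :=
    ((QuotientGroup.mk' _).prodMap (QuotientGroup.mk' _)).comp f
  refine qk_of_hom g ?_ ((ha hA).prod (hb hB))
  exact nilpotent_of_injective
    ({ toFun := fun x => (⟨(f x).1, (QuotientGroup.eq_one_iff _).mp (congrArg Prod.fst x.2)⟩,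
         ⟨(f x).2, (QuotientGroup.eq_one_iff _).mp (congrArg Prod.snd x.2)⟩)
       map_one' := by simp
       map_mul' := fun x y => by simp } : g.ker →* Cfsg.fittingSubgroup A × Cfsg.fittingSubgroup B)
    fun x y e => Subtype.ext (hf (Prod.ext (congrArg (fun t => (t.1 : A)) e) (congrArg (fun t => (t.2 : B)) e)))

/-- A normal subgroup of bounded index inside a power. -/
theorem QK.of_blocks [Finite A] [Finite B] {a n T : ℕ} (ha : QK B a) (K : Subgroup A) [K.Normal]
    (hT : K.index ≤ T) (ψ : K →* (Fin n → B)) (hψ : Function.Injective ψ) : QK A (T * a ^ n) := by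
  haveI hB : (Cfsg.fittingSubgroup B).Normal := Grp.fittingSubgroup_isNormal
  haveI := Grp.fittingSubgroup_isNilpotent (G := B)
  haveI hK : (Cfsg.fittingSubgroup K).Normal := Grp.fittingSubgroup_isNormal
  haveI := Grp.fittingSubgroup_isNilpotent (G := K)
  let g : K →* (Fin n → B ⧸ Cfsg.fittingSubgroup B) :=
    MonoidHom.mk' (fun x i => QuotientGroup.mk' _ (ψ x i)) fun x y => funext fun i => by
      rw [map_mul]; exact map_mul _ _ _
  have hg : g.ker ≤ Cfsg.fittingSubgroup K := by
    refine Grp.le_fittingSubgroup inferInstance ?_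
    exact nilpotent_of_injective
      ({ toFun := fun x i => ⟨ψ x i, (QuotientGroup.eq_one_iff _).mp (congrFun x.2 i)⟩
         map_one' := funext fun i => Subtype.ext (by simp)
         map_mul' := fun x y => funext fun i => Subtype.ext (by simp) } :
        g.ker →* (Fin n → Cfsg.fittingSubgroup B))
      fun x y e => Subtype.ext (hψ (funext fun i => congrArg Subtype.val (congrFun e i)))
  have hKk : QK K (a ^ n) :=
    qk_of_quotient g.ker hg (((ha hB).pow n).of_injective _ (QuotientGroup.kerLift_injective g))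
  haveI : ((Cfsg.fittingSubgroup K).map K.subtype).Normal :=
    Grp.normal_of_characteristic_map (Cfsg.fittingSubgroup K)
  set N := (Cfsg.fittingSubgroup K).map K.subtype with hN
  have hNF : N ≤ Cfsg.fittingSubgroup A :=
    Grp.le_fittingSubgroup inferInstance (Grp.isNilpotent_map inferInstance K.subtype)
  refine qk_of_quotient N hNF ((SubK.of_index (K.map (QuotientGroup.mk' N)) ?_ ?_))
  · let g0 : K →* A ⧸ N := (QuotientGroup.mk' N).comp K.subtype
    have hg0 : g0.ker = Cfsg.fittingSubgroup K := by
      ext x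
      rw [MonoidHom.mem_ker]
      show QuotientGroup.mk' N (x : A) = 1 ↔ _
      rw [QuotientGroup.mk'_apply, QuotientGroup.eq_one_iff]
      exact ⟨fun ⟨y, hy, e⟩ => Subtype.ext e ▸ hy, fun hx => ⟨x, hx, rfl⟩⟩
    have hrange : g0.range = K.map (QuotientGroup.mk' N) := by
      rw [MonoidHom.range_comp, Subgroup.range_subtype]
    let e := ((QuotientGroup.quotientMulEquivOfEq hg0).symm.trans
      (QuotientGroup.quotientKerEquivRange g0)).trans (MulEquiv.subgroupCongr hrange)
    exact (hKk hK).of_injective e.symm.toMonoidHom e.symm.injective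
  · rw [Subgroup.index_map_eq _ (QuotientGroup.mk'_surjective N) ?_]
    · exact hT
    · rw [QuotientGroup.ker_mk']; exact Subgroup.map_subtype_le _

end Cfsg.Agent.ClassLinear
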