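import Mathlib

/-!
# Reducing a finite complex linear group modulo a maximal ideal
-/

set_option autoImplicit false
set_option linter.style.haveILetI false

namespace Cfsg.Agent.ClassLinear

open Matrix

/-- The integers form a Jacobson ring. -/
theorem isJacobsonRing_int : IsJacobsonRing ℤ := by
  rw [isJacobsonRing_iff_prime_eq]
  intro P hP
  refine le_antisymm ?_ Ideal.le_jacobson
  intro x hx
  by_cases hP0 : P = ⊥
  · subst hP0
    rw [Ideal.mem_bot]
    by_contra hx0
    obtain ⟨p, hle, hp⟩ := Nat.exists_infinite_primes (x.natAbs + 1)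
    haveI : (Ideal.span ({(p : ℤ)} : Set ℤ)).IsMaximal :=
      PrincipalIdealRing.isMaximal_of_irreducible (Nat.prime_iff_prime_int.mp hp).irreducible
    have hm : x ∈ Ideal.span ({(p : ℤ)} : Set ℤ) := Ideal.mem_sInf.mp hx ⟨bot_le, ‹_›⟩
    rw [Ideal.mem_span_singleton] at hm
    have := Nat.le_of_dvd (Int.natAbs_pos.mpr hx0) (Int.natAbs_dvd_natAbs.mpr hm)
    rw [Int.natAbs_natCast] at this
    omega
  · haveI := hP.isMaximal hP0
    exact Ideal.mem_sInf.mp hx ⟨le_rfl, inferInstance⟩

/-- A field of finite type over the integers is finite. -/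
theorem finite_field_of_finiteType (F : Type*) [Field F] [alg : Algebra ℤ F]
    [Algebra.FiniteType ℤ F] : Finite F := by
  obtain rfl : alg = Ring.toIntAlgebra F := Subsingleton.elim _ _
  haveI := isJacobsonRing_int
  haveI : Module.Finite ℤ F := finite_of_finite_type_of_isJacobsonRing ℤ F
  obtain ⟨p, hchar⟩ := CharP.exists F
  have hp : p ≠ 0 := by
    rintro rfl
    haveI := CharP.charP_to_charZero F
    haveI : Algebra.IsIntegral ℤ F := Algebra.IsIntegral.of_finite ℤ F
    exact Int.not_isField (isField_of_isIntegral_of_isField (R := ℤ) (S := F)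
      (fun a b h => Int.cast_injective (α := F) (by simpa using h)) (Field.toIsField F))
  haveI := Module.Finite.iff_addGroup_fg.mp (inferInstance : Module.Finite ℤ F)
  exact AddCommGroup.finite_of_fg_torsion F fun x => isOfFinAddOrder_iff_nsmul_eq_zero.mpr
    ⟨p, Nat.pos_of_ne_zero hp, by rw [nsmul_eq_mul, CharP.cast_eq_zero, zero_mul]⟩

/-- A finite complex linear group embeds in one over a finite field of coprime characteristic. -/
theorem exists_reduction {r : ℕ} (G : Subgroup (GL (Fin r) ℂ)) [Finite G] :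
    ∃ (F : Type) (_ : Field F) (_ : Finite F), (Nat.card G : F) ≠ 0 ∧
      ∃ ρ : G →* GL (Fin r) F, Function.Injective ρ := by
  classical
  letI := Fintype.ofFinite G
  let ent : G × Fin r × Fin r → ℂ := fun x => ((x.1 : GL (Fin r) ℂ) : Matrix (Fin r) (Fin r) ℂ) x.2.1 x.2.2
  let inv : G × Fin r × Fin r → ℂ := fun x => (ent x - (1 : Matrix (Fin r) (Fin r) ℂ) x.2.1 x.2.2)⁻¹
  let s : Finset ℂ := Finset.univ.image ent ∪ Finset.univ.image inv ∪ {((Nat.card G : ℕ) : ℂ)⁻¹}
  let R := Algebra.adjoin ℤ (s : Set ℂ)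
  have hent : ∀ x, ent x ∈ R := fun x => Algebra.subset_adjoin (by
    simp only [s, Finset.coe_union, Finset.coe_image]
    exact Or.inl (Or.inl ⟨x, by simp, rfl⟩))
  have hinv : ∀ x, inv x ∈ R := fun x => Algebra.subset_adjoin (by
    simp only [s, Finset.coe_union, Finset.coe_image]
    exact Or.inl (Or.inr ⟨x, by simp, rfl⟩))
  have hcard : ((Nat.card G : ℕ) : ℂ)⁻¹ ∈ R := Algebra.subset_adjoin (by simp [s])
  haveI : Algebra.FiniteType ℤ R :=
    (Subalgebra.fg_iff_finiteType R).mp ⟨s, rfl⟩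
  obtain ⟨m, hm⟩ := Ideal.exists_maximal R
  letI := Ideal.Quotient.field m
  haveI hft : Algebra.FiniteType ℤ (R ⧸ m) :=
    Algebra.FiniteType.of_surjective (Ideal.Quotient.mkₐ ℤ m) Ideal.Quotient.mk_surjective
  let π : R →+* R ⧸ m := Ideal.Quotient.mk m
  refine ⟨R ⧸ m, inferInstance, finite_field_of_finiteType (R ⧸ m), ?_, ?_⟩
  · intro h0
    have e : ((Nat.card G : ℕ) : R) * ⟨_, hcard⟩ = 1 := by
      refine Subtype.ext ?_
      show ((Nat.card G : R) : ℂ) * ((Nat.card G : ℕ) : ℂ)⁻¹ = 1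
      rw [show ((Nat.card G : R) : ℂ) = (Nat.card G : ℂ) from map_natCast R.val _]
      exact mul_inv_cancel₀ (Nat.cast_ne_zero.mpr Nat.card_pos.ne')
    have := congrArg π e
    rw [map_mul, map_natCast, h0, zero_mul, map_one] at this
    exact zero_ne_one this
  let lift : G → Matrix (Fin r) (Fin r) R := fun g => Matrix.of fun i j => ⟨_, hent (g, i, j)⟩
  have hlift : ∀ g : G, R.val.toRingHom.mapMatrix (lift g) = ((g : GL (Fin r) ℂ) : Matrix (Fin r) (Fin r) ℂ) :=
    fun g => rfl
  have hinj : Function.Injective (R.val.toRingHom.mapMatrix (m := Fin r)) := fun a b h =>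
    Matrix.ext fun i j => Subtype.ext (congrFun (congrFun h i) j)
  let L : G →* Matrix (Fin r) (Fin r) R :=
    { toFun := lift
      map_one' := hinj (by rw [hlift, map_one]; rfl)
      map_mul' := fun g h => hinj (by rw [map_mul, hlift, hlift, hlift]; rfl) }
  refine ⟨((π.mapMatrix.toMonoidHom).comp L).toHomUnits, ?_⟩
  rw [injective_iff_map_eq_one]
  intro g hg
  by_contra hg1
  obtain ⟨i, j, hij⟩ : ∃ i j, ent (g, i, j) ≠ (1 : Matrix (Fin r) (Fin r) ℂ) i j := by
    by_contra hno
    push Not at hno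
    exact hg1 (Subtype.ext (Units.ext (Matrix.ext hno)))
  have hone : π ((lift g) i j) = π ((1 : Matrix (Fin r) (Fin r) R) i j) := by
    have e := congrArg (fun u : GL (Fin r) (R ⧸ m) => (Units.val u : Matrix (Fin r) (Fin r) (R ⧸ m)) i j) hg
    refine Eq.trans e ?_
    show (1 : Matrix (Fin r) (Fin r) (R ⧸ m)) i j = _
    rw [Matrix.one_apply, Matrix.one_apply, apply_ite π, map_one, map_zero]
  have e : ((lift g) i j - (1 : Matrix (Fin r) (Fin r) R) i j) * ⟨_, hinv (g, i, j)⟩ = 1 := by
    refine Subtype.ext ?_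
    have h1 : ((((1 : Matrix (Fin r) (Fin r) R) i j : R)) : ℂ) = (1 : Matrix (Fin r) (Fin r) ℂ) i j := by
      rw [Matrix.one_apply, Matrix.one_apply]
      split_ifs <;> rfl
    show (ent (g, i, j) - (((1 : Matrix (Fin r) (Fin r) R) i j : R) : ℂ)) * inv (g, i, j) = 1
    rw [h1]
    exact mul_inv_cancel₀ (sub_ne_zero.mpr hij)
  have := congrArg π e
  rw [map_mul, map_sub, hone, sub_self, zero_mul, map_one] at this
  exact zero_ne_one this

end Cfsg.Agent.ClassLinear
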