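import Cfsg.Agent.Lib.Grp.ClassLinear.FieldClasses
import Cfsg.Agent.Lib.Grp.ClassLinear.ModReduce
import Cfsg.Agent.Lib.Grp.BaseCop.Maschke

/-!
# Classes modulo the Fitting subgroup of a solvable complex linear group
-/

set_option autoImplicit false
set_option linter.style.haveILetI false

namespace Cfsg.Agent.ClassLinear

open SqClass BaseTwo
open Matrix

/-- The bound over a finite field of coprime characteristic. -/
theorem qk_finite_field {r : ℕ} (hr : 1 ≤ r) {G : Type} [Group G] [Finite G] (hsol : Group.IsSolvable G)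
    {F : Type} [Field F] [Finite F] (hG : (Nat.card G : F) ≠ 0) (ρ : G →* GL (Fin r) F)
    (hρ : Function.Injective ρ) : QK G (3 ^ (r - 1)) := by
  classical
  letI := Fintype.ofFinite F
  obtain ⟨p, hchar⟩ := CharP.exists F
  haveI := hchar
  have hp : p.Prime := CharP.char_is_prime F p
  haveI := Fact.mk hp
  haveI : Nonempty (Fin r) := ⟨⟨0, hr⟩⟩
  haveI : Finite (AddMonoid.End (Fin r → F)) :=
    Finite.of_injective (fun f : AddMonoid.End (Fin r → F) => (f : (Fin r → F) → Fin r → F)) DFunLike.coe_injective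
  let lin : G →* (AddMonoid.End (Fin r → F))ˣ :=
    MonoidHom.toHomUnits
      { toFun := fun g => (Matrix.mulVecLin (ρ g : Matrix (Fin r) (Fin r) F)).toAddMonoidHom
        map_one' := AddMonoidHom.ext fun v => by
          show ((ρ 1 : GL (Fin r) F) : Matrix (Fin r) (Fin r) F) *ᵥ v = v
          rw [map_one, Units.val_one, Matrix.one_mulVec]
        map_mul' := fun g h => AddMonoidHom.ext fun v => by
          show ((ρ (g * h) : GL (Fin r) F) : Matrix (Fin r) (Fin r) F) *ᵥ v =
            ((ρ g : GL (Fin r) F) : Matrix (Fin r) (Fin r) F) *ᵥ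
              (((ρ h : GL (Fin r) F) : Matrix (Fin r) (Fin r) F) *ᵥ v)
          rw [map_mul, Units.val_mul, Matrix.mulVec_mulVec] }
  let sc : Fˣ →* (AddMonoid.End (Fin r → F))ˣ :=
    MonoidHom.toHomUnits
      { toFun := fun c => DistribSMul.toAddMonoidHom (Fin r → F) (c : F)
        map_one' := AddMonoidHom.ext fun v => one_smul F v
        map_mul' := fun c d => AddMonoidHom.ext fun v => mul_smul (c : F) d v }
  have hcomm : ∀ g c, Commute (lin g) (sc c) := fun g c => Units.ext (AddMonoidHom.ext fun v => by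
    show ((ρ g : GL (Fin r) F) : Matrix (Fin r) (Fin r) F) *ᵥ ((c : F) • v) =
      (c : F) • (((ρ g : GL (Fin r) F) : Matrix (Fin r) (Fin r) F) *ᵥ v)
    rw [Matrix.mulVec_smul])
  let ψ : G × Fˣ →* (AddMonoid.End (Fin r → F))ˣ := lin.noncommCoprod sc hcomm
  have hψ : ∀ g c, ψ (g, c) = lin g * sc c := fun g c => rfl
  have hlin : Function.Injective lin := fun g h e => hρ (Units.ext (Matrix.toLin'.injective
    (LinearMap.ext fun v => congrArg (fun u : (AddMonoid.End (Fin r → F))ˣ =>
      (u : AddMonoid.End (Fin r → F)) v) e)))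
  haveI := hsol
  haveI : Group.IsSolvable (G × Fˣ) := inferInstance
  have hAsol : Group.IsSolvable ψ.range := Group.isSolvable_of_surjective ψ.rangeRestrict_surjective
  haveI : Finite ψ.range := Finite.of_surjective _ ψ.rangeRestrict_surjective
  set q := Nat.card F with hq
  obtain ⟨n, -, hn⟩ := FiniteField.card F p
  have hqn : q = p ^ (n : ℕ) := Nat.card_eq_fintype_card.trans hn
  have hV : Nat.card (Fin r → F) = q ^ r := by rw [Nat.card_fun, Nat.card_fin]
  -- complete reducibility
  have hcop : (Nat.card ψ.range).Coprime (Nat.card (Fin r → F)) := by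
    refine Nat.Coprime.coprime_dvd_left ((Nat.card_congr (QuotientGroup.quotientKerEquivRange ψ).toEquiv) ▸
      ψ.ker.card_quotient_dvd_card) ?_
    rw [hV, hqn, ← pow_mul]
    refine Nat.Coprime.pow_right _ ?_
    rw [Nat.coprime_comm, hp.coprime_iff_not_dvd, Nat.card_prod, hp.dvd_mul, Nat.card_units, ← hq]
    rintro (h | h)
    · exact hG ((CharP.cast_eq_zero_iff F p _).mpr h)
    · have h2 : p ∣ q := hqn ▸ dvd_pow_self p n.pos.ne'
      have h1 := Nat.dvd_sub h2 h
      have : q - (q - 1) = 1 := by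
        have : 1 ≤ q := Nat.card_pos
        omega
      rw [this] at h1
      exact hp.one_lt.ne' (Nat.dvd_one.mp h1)
  have hcr : IsCR ψ.range (Fin r → F) := BaseCop.isCR_of_coprime hp (fun x => by
    rw [← Nat.cast_smul_eq_nsmul F, CharP.cast_eq_zero, zero_smul]) hcop
  -- the central element
  obtain ⟨c, hc⟩ := IsCyclic.exists_generator (α := Fˣ)
  have hsc : ∀ d : Fˣ, ∀ v : Fin r → F, v ≠ 0 → (d : F) • v = v → d = 1 := fun d v hv e =>
    Units.ext (smul_left_injective F hv (e.trans (one_smul F v).symm))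
  have hpow : ∀ k : ℕ, ψ.rangeRestrict (1, c) ^ k = ψ.rangeRestrict (1, c ^ k) := fun k => by
    rw [← map_pow, Prod.pow_mk, one_pow]
  have hact : ∀ (d : Fˣ) (v : Fin r → F),
      ψ.rangeRestrict (1, d) • v = (d : F) • v := fun d v => by
    show ((ψ (1, d) : (AddMonoid.End (Fin r → F))ˣ) : AddMonoid.End (Fin r → F)) v = _
    rw [hψ, map_one, one_mul]
    rfl
  have hz : HasCentral ψ.range (q - 1) := by
    refine ⟨ψ.rangeRestrict (1, c), ?_, ?_, fun k hk v hv e => ?_⟩
    · rw [Subgroup.mem_center_iff]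
      intro y
      obtain ⟨⟨g, d⟩, rfl⟩ := ψ.rangeRestrict_surjective y
      rw [← map_mul, ← map_mul, Prod.mk_mul_mk, Prod.mk_mul_mk, one_mul, mul_one, mul_comm c d]
    · rw [← Nat.card_units, ← orderOf_eq_card_of_forall_mem_zpowers hc]
      refine orderOf_eq_orderOf_iff.mpr fun k => ?_
      rw [hpow]
      refine ⟨fun h => ?_, fun h => by rw [h]; exact map_one _⟩
      obtain ⟨v, hv⟩ := exists_ne (0 : Fin r → F)
      refine hsc _ v hv ?_
      rw [← hact, h, one_smul]
    · rw [hpow] at hk e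
      rw [hact] at e
      exact hk (by rw [hsc _ v hv e]; exact map_one _)
  obtain ⟨d, hd1, hd, hdV⟩ := qk_central ψ.range hAsol hcr hz
  rw [hV, Nat.sub_add_cancel Nat.card_pos] at hdV
  have hdr : d ≤ r := (Nat.pow_le_pow_iff_right (Finite.one_lt_card (α := F))).mp hdV
  refine ((hd.of_injective (ψ.rangeRestrict.comp (MonoidHom.inl G Fˣ)) ?_)).mono
    (Nat.pow_le_pow_right (by norm_num) (Nat.sub_le_sub_right hdr 1))
  intro g h e
  have e' : ψ (g, 1) = ψ (h, 1) := congrArg Subtype.val e
  rw [hψ, hψ, map_one, mul_one, mul_one] at e'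
  exact hlin e'

/-- The bound for finite solvable complex linear groups. -/
theorem qk_complex {r : ℕ} (hr : 1 ≤ r) (G : Subgroup (GL (Fin r) ℂ)) [Finite G]
    (hsol : Group.IsSolvable G) : QK G (3 ^ (r - 1)) := by
  obtain ⟨F, _, _, hG, ρ, hρ⟩ := exists_reduction G
  exact qk_finite_field hr hsol hG ρ hρ

end Cfsg.Agent.ClassLinear
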