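import Cfsg.Agent.Lib.Grp.ClassLinear.CentralBound

/-!
# An irreducible solvable linear group with a normal subgroup of prime order

The index of the centraliser of the subgroup is bounded by the dimension, and the commuting
probability of the centraliser by a power of the number of points.
-/

set_option autoImplicit false
set_option linter.style.haveILetI false

universe u

namespace Cfsg.Agent.ClassLinear

open SqClass BaseTwo
open Polynomial (aeval X C)

variable {V : Type u} [AddCommGroup V]

/-- Evaluating a polynomial along an equivariant map from a vector space over a larger field. -/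
theorem aeval_apply_inter {r : ℕ} [Fact r.Prime] [Module (ZMod r) V] {K U : Type u} [Field K]
    [Algebra (ZMod r) K] [AddCommGroup U] [Module K U] (f : Module.End (ZMod r) V) (ι : U →+ V)
    (l : K) (h : ∀ u, f (ι u) = ι (l • u)) (P : Polynomial (ZMod r)) :
    ∀ u, aeval f P (ι u) = ι (aeval l P • u) := by
  induction P using Polynomial.induction_on with
  | C a =>
    intro u
    obtain ⟨n, rfl⟩ := ZMod.natCast_zmod_surjective a
    rw [map_natCast (C : ZMod r →+* Polynomial (ZMod r)), map_natCast, map_natCast, Nat.cast_smul_eq_nsmul,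
      map_nsmul, Module.End.natCast_apply]
  | add p q hp hq =>
    intro u
    rw [map_add, map_add, LinearMap.add_apply, hp, hq, add_smul, map_add]
  | monomial n a ih =>
    intro u
    rw [pow_succ, ← mul_assoc, map_mul (aeval f) (C a * Polynomial.X ^ n) Polynomial.X,
      map_mul (aeval l) (C a * Polynomial.X ^ n) Polynomial.X, Module.End.mul_apply, Polynomial.aeval_X,
      Polynomial.aeval_X, h, ih, mul_smul]

variable [Finite V]

/-- Translates of a minimal invariant subgroup of a normal subgroup span directly. -/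
theorem exists_translates {A : Subgroup (AddMonoid.End V)ˣ} (hirr : IsIrr A V) (Cz : Subgroup A)
    [Cz.Normal] (U : AddSubgroup V) (hU0 : U ≠ ⊥) (hUinv : IsInv Cz U)
    (hUmin : ∀ X : AddSubgroup V, IsInv Cz X → X ≤ U → X = ⊥ ∨ X = U) :
    ∃ s : Finset A, Nat.card V = Nat.card U ^ s.card ∧
      (⨆ a ∈ s, U.map (toEnd A a : V →+ V)) = ⊤ := by
  classical
  haveI : Finite A := Finite.of_injective _ Subtype.val_injective
  haveI := Fintype.ofFinite A
  let tr : A → AddSubgroup V := fun a => U.map (toEnd A a : V →+ V)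
  have htr : ∀ a, IsInv Cz (tr a) := by
    rintro a c _ ⟨x, hx, rfl⟩
    have hc : a⁻¹ * (c : A) * a ∈ Cz := by
      simpa using Subgroup.Normal.conj_mem inferInstance _ c.2 a⁻¹
    refine ⟨(⟨_, hc⟩ : Cz) • x, hUinv _ x hx, ?_⟩
    show a • ((a⁻¹ * (c : A) * a) • x) = (c : A) • (a • x)
    rw [← mul_smul, ← mul_smul, ← mul_assoc, mul_inv_cancel_left]
  have hcard : ∀ a, Nat.card (tr a) = Nat.card U := fun a =>
    (Nat.card_congr (U.equivMapOfInjective (toEnd A a : V →+ V) fun x y h =>
      MulAction.injective a h).toEquiv).symm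
  have hmin : ∀ a, ∀ X : AddSubgroup V, IsInv Cz X → X ≤ tr a → X = ⊥ ∨ X = tr a := by
    intro a X hX hXa
    have hinv : IsInv Cz (X.comap (toEnd A a : V →+ V)) := by
      intro c x hx
      have hc : a * (c : A) * a⁻¹ ∈ Cz := Subgroup.Normal.conj_mem inferInstance _ c.2 a
      have := hX ⟨_, hc⟩ _ hx
      show a • ((c : A) • x) ∈ X
      convert this using 1
      show _ = (a * (c : A) * a⁻¹) • (a • x)
      rw [← mul_smul, ← mul_smul, inv_mul_cancel_right]
    have hle : X.comap (toEnd A a : V →+ V) ≤ U := by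
      intro x hx
      obtain ⟨y, hy, e⟩ := hXa hx
      rwa [← MulAction.injective a e]
    have hX' : X = (X.comap (toEnd A a : V →+ V)).map (toEnd A a : V →+ V) := by
      refine (AddSubgroup.map_comap_eq_self fun x hx => ?_).symm
      exact ⟨a⁻¹ • x, smul_inv_smul a x⟩
    rcases hUmin _ hinv hle with h | h
    · refine Or.inl ?_
      rw [hX', h]
      exact AddSubgroup.map_bot (toEnd A a : V →+ V)
    · exact Or.inr (by rw [hX', h])
  let W : Finset A → AddSubgroup V := fun s => ⨆ a ∈ s, tr a
  have hW : ∀ s, IsInv Cz (W s) := by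
    intro s c x hx
    have : W s ≤ (W s).comap (toEnd A (c : A) : V →+ V) := by
      refine iSup₂_le fun a ha => ?_
      intro y hy
      exact le_iSup₂ (f := fun a (_ : a ∈ s) => tr a) a ha (htr a c y hy)
    exact this hx
  obtain ⟨s, hs, hsmax⟩ := (Finset.univ.filter fun s : Finset A =>
    Nat.card (W s) = Nat.card U ^ s.card).exists_max_image Finset.card
      ⟨∅, by simp [W]⟩
  rw [Finset.mem_filter] at hs
  have htop : W s = ⊤ := by
    have hall : ∀ a, tr a ≤ W s := by
      intro a
      by_contra hna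
      have hinf : W s ⊓ tr a = ⊥ := by
        refine (hmin a (W s ⊓ tr a) (fun c x hx => AddSubgroup.mem_inf.mpr ⟨hW s c x (AddSubgroup.mem_inf.mp hx).1, htr a c x (AddSubgroup.mem_inf.mp hx).2⟩) inf_le_right).resolve_right ?_
        intro h
        exact hna (h ▸ inf_le_left)
      have has : a ∉ s := fun h => hna (le_iSup₂ (f := fun a (_ : a ∈ s) => tr a) a h)
      have hnew : Nat.card (W (insert a s)) = Nat.card U ^ (insert a s).card := by
        have e : W (insert a s) = W s ⊔ tr a := by
          rw [sup_comm]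
          exact Finset.iSup_insert a s tr
        rw [Finset.card_insert_of_notMem has, pow_succ, ← hs.2, ← hcard a, ← Nat.card_prod, e]
        refine (Nat.card_eq_of_bijective (fun x : W s × tr a =>
          (⟨(x.1 : V) + x.2, AddSubgroup.add_mem_sup x.1.2 x.2.2⟩ : (W s ⊔ tr a : AddSubgroup V)))
          ⟨?_, ?_⟩).symm
        · rintro ⟨x, y⟩ ⟨x', y'⟩ h
          have e' : (x : V) - x' = (y' : V) - y :=
            sub_eq_sub_iff_add_eq_add.mpr (by rw [add_comm (y' : V)]; exact congrArg Subtype.val h)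
          have : (x : V) - x' ∈ W s ⊓ tr a := ⟨AddSubgroup.sub_mem (W s) x.2 x'.2, e' ▸ AddSubgroup.sub_mem (tr a) y'.2 y.2⟩
          rw [hinf, AddSubgroup.mem_bot] at this
          rw [this] at e'
          exact Prod.ext (Subtype.ext (sub_eq_zero.mp this)) (Subtype.ext (sub_eq_zero.mp e'.symm).symm)
        · rintro ⟨x, hx⟩
          obtain ⟨y, hy, z, hz, rfl⟩ := AddSubgroup.mem_sup.mp hx
          exact ⟨(⟨y, hy⟩, ⟨z, hz⟩), rfl⟩
      have := hsmax (insert a s) (Finset.mem_filter.mpr ⟨Finset.mem_univ _, hnew⟩)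
      rw [Finset.card_insert_of_notMem has] at this
      omega
    have hinvA : IsInv A (⨆ a, tr a) := by
      intro g x hx
      have : (⨆ a, tr a) ≤ (⨆ a, tr a).comap (toEnd A g : V →+ V) := by
        refine iSup_le fun a => ?_
        rintro _ ⟨y, hy, rfl⟩
        refine le_iSup tr (g * a) ⟨y, hy, ?_⟩
        exact mul_smul g a y
      exact this hx
    have hne : (⨆ a, tr a) ≠ ⊥ := by
      intro h
      refine hU0 (eq_bot_iff.mpr fun x hx => ?_)
      rw [← h]
      exact le_iSup tr 1 ⟨x, hx, one_smul A x⟩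
    exact top_le_iff.mp (((hirr _ hinvA).resolve_left hne).ge.trans (iSup_le hall))
  refine ⟨s, ?_, htop⟩
  rw [← hs.2, htop]
  exact (Nat.card_congr AddSubgroup.topEquiv.toEquiv).symm

/-- The main statement. -/
theorem cyclic_normal [Nontrivial V] {A : Subgroup (AddMonoid.End V)ˣ} (hsol : Group.IsSolvable A)
    (hirr : IsIrr A V) {p : ℕ} (hp : p.Prime) (hp64 : 64 ≤ p) {z : A} (hz : orderOf z = p)
    (hn : (Subgroup.zpowers z).Normal) :
    let o := (Subgroup.centralizer (Subgroup.zpowers z : Set A)).index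
    (CPB A (o * o) ∧ 2 ^ o ≤ Nat.card V) ∨
      ∃ C₀, CPB A (C₀ * (o * o)) ∧ (9 * C₀) ^ 3 ≤ Nat.card V ^ 2 ∧ 4 ^ o ≤ Nat.card V := by
  classical
  intro o
  haveI := hn
  haveI := Fact.mk hp
  haveI : FaithfulSMul A V := ⟨fun {a b} h => Subtype.ext (Units.ext (AddMonoidHom.ext h))⟩
  haveI : Finite A := Finite.of_injective _ Subtype.val_injective
  set Cz := Subgroup.centralizer (Subgroup.zpowers z : Set A) with hCz
  haveI hCn : Cz.Normal := by infer_instance
  have hzC : ∀ c ∈ Cz, c * z = z * c := fun c hc =>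
    ((Subgroup.mem_centralizer_iff.mp hc) z (Subgroup.mem_zpowers z)).symm
  have hzmem : z ∈ Cz := by
    rw [hCz, Subgroup.mem_centralizer_iff]
    rintro _ ⟨k, rfl⟩
    exact (Commute.refl z).zpow_left k
  -- no fixed vectors
  have hfpf : ∀ k : ℕ, z ^ k ≠ 1 → ∀ v : V, v ≠ 0 → z ^ k • v ≠ v := by
    intro k hk v hv hfix
    let X : AddSubgroup V :=
      { carrier := {x | ∀ y ∈ Subgroup.zpowers z, y • x = x}
        zero_mem' := fun y _ => smul_zero y
        add_mem' := fun {a b} ha hb y hy => by rw [smul_add, ha y hy, hb y hy]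
        neg_mem' := fun {a} ha y hy => by rw [smul_neg, ha y hy] }
    have hX : IsInv A X := by
      intro a x hx y hy
      have : a⁻¹ * y * a ∈ Subgroup.zpowers z := by
        simpa using Subgroup.Normal.conj_mem inferInstance y hy a⁻¹
      have e := hx _ this
      rw [mul_smul, mul_smul, inv_smul_eq_iff] at e
      exact e
    have hvX : v ∈ X := by
      intro y hy
      have hzk : Subgroup.zpowers (z ^ k) = Subgroup.zpowers z := by
        refine Subgroup.eq_of_le_of_card_ge (by rw [Subgroup.zpowers_le]; exact Subgroup.npow_mem_zpowers z k) ?_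
        rw [Nat.card_zpowers, Nat.card_zpowers, hz, orderOf_eq_prime (p := p) ?_ hk]
        rw [← pow_mul, mul_comm, pow_mul, ← hz, pow_orderOf_eq_one, one_pow]
      rw [← hzk] at hy
      obtain ⟨j, rfl⟩ := hy
      have : z ^ k ∈ MulAction.stabilizer A v := hfix
      exact zpow_mem this j
    rcases hirr X hX with h | h
    · rw [h, AddSubgroup.mem_bot] at hvX
      exact hv hvX
    · refine hk (FaithfulSMul.eq_of_smul_eq_smul (α := V) fun x => ?_)
      rw [one_smul]
      exact (h.ge (AddSubgroup.mem_top x)) _ (Subgroup.npow_mem_zpowers z k)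
  -- a minimal invariant subgroup of the centraliser
  obtain ⟨U, ⟨hU0, hUinv⟩, hUmin'⟩ :=
    ({X : AddSubgroup V | X ≠ ⊥ ∧ IsInv Cz X}).toFinite.exists_minimal
      ⟨⊤, (top_ne_bot : (⊤ : AddSubgroup V) ≠ ⊥), fun _ _ _ => trivial⟩
  have hUmin : ∀ X : AddSubgroup V, IsInv Cz X → X ≤ U → X = ⊥ ∨ X = U := by
    intro X hX hle
    by_cases h : X = ⊥
    · exact Or.inl h
    · exact Or.inr (le_antisymm hle (hUmin' ⟨h, hX⟩ hle))
  obtain ⟨s, hVs, hsup⟩ := exists_translates hirr Cz U hU0 hUinv hUmin
  letI := invAction U hUinv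
  haveI hUnt : Nontrivial U := (AddSubgroup.nontrivial_iff_ne_bot U).mpr hU0
  have hirrU : IsIrr Cz U := by
    intro X hX
    rcases hUmin (X.map U.subtype) (by rintro c _ ⟨x, hx, rfl⟩; exact ⟨c • x, hX c x hx, rfl⟩)
      (AddSubgroup.map_subtype_le X) with h | h
    · left
      exact (AddSubgroup.map_eq_bot_iff_of_injective X Subtype.val_injective).mp h
    · right
      rw [eq_top_iff]
      intro x _
      obtain ⟨y, hy, e⟩ := h.ge x.2
      rwa [← Subtype.val_injective e]
  let h := linHom Cz U
  let H := h.range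
  have hHirr : IsIrr H U := isIrr_range hirrU
  haveI := hsol
  have hHsol : Group.IsSolvable H := Group.isSolvable_of_surjective h.rangeRestrict_surjective
  haveI : FaithfulSMul H U := ⟨fun {a b} e => Subtype.ext (Units.ext (AddMonoidHom.ext e))⟩
  haveI : Finite H := Finite.of_injective _ Subtype.val_injective
  let w : H := h.rangeRestrict ⟨z, hzmem⟩
  have hwpow : ∀ (k : ℕ) (u : U), ((w ^ k • u : U) : V) = z ^ k • (u : V) := by
    intro k u
    show ((h.rangeRestrict ⟨z, hzmem⟩ ^ k • u : U) : V) = _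
    rw [← map_pow]
    rfl
  have hwone : ∀ k : ℕ, w ^ k = 1 ↔ z ^ k = 1 := by
    intro k
    constructor
    · intro e
      by_contra hne
      obtain ⟨u, hu⟩ := exists_ne (0 : U)
      have e' := hwpow k u
      rw [e, one_smul] at e'
      exact hfpf k hne u (fun h0 => hu (Subtype.ext h0)) e'.symm
    · intro e
      have : (⟨z, hzmem⟩ : Cz) ^ k = 1 := Subtype.ext (by simpa using e)
      show h.rangeRestrict ⟨z, hzmem⟩ ^ k = 1
      rw [← map_pow, this, map_one]
  have hwc : w ∈ Subgroup.center H := by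
    rw [Subgroup.mem_center_iff]
    intro y
    obtain ⟨c, rfl⟩ := h.rangeRestrict_surjective y
    show _ * h.rangeRestrict ⟨z, hzmem⟩ = h.rangeRestrict ⟨z, hzmem⟩ * _
    rw [← map_mul, ← map_mul]
    exact congrArg _ (Subtype.ext (hzC c c.2))
  have hHz : HasCentral H p := ⟨w, hwc, (orderOf_eq_orderOf_iff.mpr hwone).trans hz, fun k hk u hu e =>
    hfpf k (fun h1 => hk ((hwone k).mpr h1)) u (fun h0 => hu (Subtype.ext h0)) (by rw [← hwpow, e])⟩
  obtain ⟨C1, d, hC1, hC1d, hd⟩ := bound (by omega) H hHsol hHirr hHz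
  -- the centraliser embeds in a power
  have hmem : ∀ (a : A) (c : Cz), a⁻¹ * (c : A) * a ∈ Cz := fun a c => by
    simpa using Subgroup.Normal.conj_mem inferInstance _ c.2 a⁻¹
  let ψ : Cz →* (↥s → H) := MonoidHom.mk' (fun c a => h.rangeRestrict ⟨_, hmem a c⟩) fun c c' => funext fun a => by
    show _ = h.rangeRestrict _ * h.rangeRestrict _
    rw [← map_mul]
    congr 1
    refine Subtype.ext ?_
    show (a : A)⁻¹ * ((c : A) * (c' : A)) * a = ((a : A)⁻¹ * (c : A) * a) * ((a : A)⁻¹ * (c' : A) * a)
    group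
  have hψ : Function.Injective ψ := by
    rw [injective_iff_map_eq_one]
    intro c hc
    refine Subtype.ext (FaithfulSMul.eq_of_smul_eq_smul (α := V) fun x => ?_)
    rw [Subgroup.coe_one, one_smul]
    let F : AddSubgroup V :=
      { carrier := {y | (c : A) • y = y}
        zero_mem' := smul_zero _
        add_mem' := fun {a b} ha hb => by show (c : A) • (a + b) = a + b; rw [smul_add, ha, hb]
        neg_mem' := fun {a} ha => by show (c : A) • -a = -a; rw [smul_neg, ha] }
    have hF : (⨆ a ∈ s, U.map (toEnd A a : V →+ V)) ≤ F := by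
      refine iSup₂_le fun a ha => ?_
      rintro _ ⟨u, hu, rfl⟩
      have e := congrArg (fun G => ((G ⟨a, ha⟩ : (AddMonoid.End U)ˣ) : AddMonoid.End U) ⟨u, hu⟩) hc
      have e' : (a⁻¹ * (c : A) * a) • u = u := congrArg Subtype.val e
      show (c : A) • (a • u) = a • u
      rw [mul_smul, mul_smul, inv_smul_eq_iff] at e'
      exact e'
    exact (hsup ▸ hF) (AddSubgroup.mem_top x)
  have hCcpb : CPB Cz (C1 ^ s.card) := by
    have := cpb_of_injective ψ hψ (cpb_pi (ι := ↥s) hC1)
    rwa [Nat.card_eq_finsetCard] at this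
  have hs1 : 1 ≤ s.card := by
    by_contra h0
    have : Nat.card V = 1 := by rw [hVs, show s.card = 0 by omega, pow_zero]
    exact (Finite.one_lt_card (α := V)).ne' this
  -- the field
  have hK : IsField (genRing (Subgroup.zpowers w)) := by
    haveI : (Subgroup.zpowers w).Normal := ⟨fun y hy g => by
      have hyc : y ∈ Subgroup.center H := (Subgroup.zpowers_le.mpr hwc) hy
      rw [Subgroup.mem_center_iff.mp hyc g, mul_inv_cancel_right]
      exact hy⟩
    refine (blocks_or_isField' hHirr (Subgroup.zpowers w) ?_).resolve_left ?_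
    · intro a ha b hb
      exact (Subgroup.mem_center_iff.mp ((Subgroup.zpowers_le.mpr hwc) ha) b).symm
    rintro ⟨D, hD⟩
    letI := D.act; haveI := D.trans; haveI := D.nontriv
    obtain ⟨i, j, hij⟩ := exists_pair_ne D.ι
    obtain ⟨g, hg⟩ := MulAction.exists_smul_eq H i j
    refine hij (Eq.trans ?_ hg)
    exact (fixes_of_centralizes D hD (fun y hy =>
      Subgroup.mem_center_iff.mp ((Subgroup.zpowers_le.mpr hwc) hy) g) i).symm
  set K := genRing (Subgroup.zpowers w) with hKdef
  letI : Field K := hK.toField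
  haveI : Finite K := Subtype.finite
  obtain ⟨r, hr, hrV⟩ := BaseThree.exists_prime_nsmul_eq_zero hirr
  haveI := Fact.mk hr
  letI : Module (ZMod r) V := AddCommGroup.zmodModule (n := r) hrV
  haveI : CharP K r := by
    refine (CharP.charP_iff_prime_eq_zero hr).mpr (Subtype.ext (AddMonoidHom.ext fun u => Subtype.ext ?_))
    rw [SubringClass.coe_natCast]
    show ((r • u : U) : V) = 0
    rw [AddSubgroup.coe_nsmul]
    exact hrV u
  letI : Algebra (ZMod r) K := ZMod.algebra K r
  haveI : Module.Finite (ZMod r) K := Module.Finite.of_finite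
  haveI : Module.Finite K U := Module.Finite.of_finite
  set n0 := Module.finrank (ZMod r) K with hn0
  set dK := Module.finrank K U with hdK
  have hKcard : Nat.card K = r ^ n0 := by
    rw [Module.natCard_eq_pow_finrank (K := ZMod r) (V := K), Nat.card_zmod]
  have hUcard : Nat.card U = Nat.card K ^ dK := Module.natCard_eq_pow_finrank
  let l : K := ⟨toEnd H w, toEnd_mem_genRing (Subgroup.mem_zpowers w)⟩
  have hlpow : ∀ (k : ℕ) (u : U), ((l ^ k • u : U) : V) = z ^ k • (u : V) := by
    intro k u
    rw [← hwpow]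
    congr 1
  have hconj : ∀ a : A, ∃ k : ℕ, a⁻¹ * z * a = z ^ k := by
    intro a
    have : a⁻¹ * z * a ∈ Subgroup.zpowers z := by
      simpa using Subgroup.Normal.conj_mem inferInstance z (Subgroup.mem_zpowers z) a⁻¹
    rw [← mem_powers_iff_mem_zpowers] at this
    obtain ⟨k, hk⟩ := this
    exact ⟨k, hk.symm⟩
  choose kf hkf using hconj
  let zV : Module.End (ZMod r) V := (toEnd A z : V →+ V).toZModLinearMap r
  have hinter : ∀ a : A, ∀ P : Polynomial (ZMod r), ∀ u : U,
      aeval zV P (a • (u : V)) = a • ((aeval (l ^ kf a) P • u : U) : V) := by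
    intro a P u
    let ι : U →+ V := (toEnd A a : V →+ V).comp U.subtype
    refine aeval_apply_inter (U := U) zV ι (l ^ kf a) (fun u => ?_) P u
    show z • (a • (u : V)) = a • ((l ^ kf a • u : U) : V)
    rw [hlpow, ← hkf, ← mul_smul, ← mul_smul, mul_assoc a⁻¹, mul_inv_cancel_left]
  let μ : Polynomial (ZMod r) := ∏ b ∈ s, minpoly (ZMod r) (l ^ kf b)
  have hμ0 : μ ≠ 0 := Finset.prod_ne_zero_iff.mpr fun b _ => minpoly.ne_zero (Algebra.IsIntegral.isIntegral _)
  have hμz : aeval zV μ = 0 := by
    refine LinearMap.ext fun x => ?_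
    have hle : (⨆ a ∈ s, U.map (toEnd A a : V →+ V)) ≤ (aeval zV μ).toAddMonoidHom.ker := by
      refine iSup₂_le fun a ha => ?_
      rintro _ ⟨u, hu, rfl⟩
      show aeval zV μ (a • ((⟨u, hu⟩ : U) : V)) = 0
      rw [hinter]
      have : aeval (l ^ kf a) μ = 0 := by
        rw [map_prod]
        exact Finset.prod_eq_zero ha (minpoly.aeval _ _)
      rw [this, zero_smul, AddSubgroup.coe_zero, smul_zero]
    exact (hsup ▸ hle) (AddSubgroup.mem_top x)
  have hroot : ∀ a : A, aeval (l ^ kf a) μ = 0 := by
    intro a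
    refine Subtype.ext (AddMonoidHom.ext fun u => Subtype.ext ?_)
    have e := hinter a μ u
    rw [hμz] at e
    exact (smul_eq_zero_iff_eq a).mp e.symm
  have ho : o ≤ s.card * n0 := by
    have h1 : o ≤ μ.natDegree := by
      let f : A ⧸ Cz → {x : K // x ∈ μ.rootSet K} := fun q =>
        ⟨l ^ kf q.out, Polynomial.mem_rootSet.mpr ⟨hμ0, hroot _⟩⟩
      have hf : Function.Injective f := by
        intro q q' e
        have el : l ^ kf q.out = l ^ kf q'.out := congrArg Subtype.val e
        have ez : z ^ kf q.out = z ^ kf q'.out := by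
          refine FaithfulSMul.eq_of_smul_eq_smul (α := V) fun x => ?_
          have key : ∀ x ∈ (⨆ a ∈ s, U.map (toEnd A a : V →+ V)), z ^ kf q.out • x = z ^ kf q'.out • x := by
            let F : AddSubgroup V :=
              { carrier := {y | z ^ kf q.out • y = z ^ kf q'.out • y}
                zero_mem' := by simp
                add_mem' := fun {a b} ha hb => by
                  show _ • (a + b) = _ • (a + b); rw [smul_add, smul_add, ha, hb]
                neg_mem' := fun {a} ha => by show _ • -a = _ • -a; rw [smul_neg, smul_neg, ha] }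
            suffices hF : (⨆ a ∈ s, U.map (toEnd A a : V →+ V)) ≤ F from fun x hx => hF hx
            refine iSup₂_le fun a ha => ?_
            rintro _ ⟨u, hu, rfl⟩
            have hpw : ∀ k : ℕ, z ^ k * a = a * z ^ (kf a * k) := fun k => by
              rw [pow_mul, ← hkf a]
              have := conj_pow (a := a⁻¹) (b := z) (i := k)
              rw [inv_inv] at this
              rw [this]
              group
            show z ^ kf q.out • (a • u) = z ^ kf q'.out • (a • u)
            rw [← mul_smul, ← mul_smul, hpw, hpw, mul_smul, mul_smul, ← hlpow _ ⟨u, hu⟩,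
              ← hlpow _ ⟨u, hu⟩, pow_mul', pow_mul', el]
          exact key x (hsup ▸ AddSubgroup.mem_top x)
        rw [← hkf, ← hkf] at ez
        have hc : q'.out * q.out⁻¹ ∈ Cz := by
          suffices hcz : q'.out * q.out⁻¹ * z = z * (q'.out * q.out⁻¹) by
            refine Subgroup.mem_centralizer_iff.mpr ?_
            rintro _ ⟨j, rfl⟩
            exact (Commute.zpow_right (show Commute (q'.out * q.out⁻¹) z from hcz) j).symm.eq
          calc q'.out * q.out⁻¹ * z = q'.out * (q.out⁻¹ * z * q.out) * q.out⁻¹ := by group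
            _ = q'.out * (q'.out⁻¹ * z * q'.out) * q.out⁻¹ := by rw [ez]
            _ = z * (q'.out * q.out⁻¹) := by group
        have hc' : q.out⁻¹ * q'.out ∈ Cz := by
          have := Subgroup.Normal.conj_mem (H := Cz) inferInstance _ hc q.out⁻¹
          simpa [mul_assoc] using this
        rw [← q.out_eq', ← q'.out_eq']
        exact QuotientGroup.eq.mpr hc'
      calc o = Nat.card (A ⧸ Cz) := Subgroup.index_eq_card _
        _ ≤ Nat.card {x : K // x ∈ μ.rootSet K} := Nat.card_le_card_of_injective f hf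
        _ = (μ.rootSet K).ncard := Nat.card_coe_set_eq _
        _ ≤ μ.natDegree := Polynomial.ncard_rootSet_le μ K
    refine h1.trans ((Polynomial.natDegree_prod_le s _).trans ?_)
    refine (Finset.sum_le_card_nsmul s _ n0 fun b _ => ?_).trans_eq ?_
    · refine (minpoly.natDegree_le (A := ZMod r) (l ^ kf b)).trans_eq
        (Nat.pow_right_injective hr.two_le (Eq.trans ?_ hKcard))
      exact ((@Module.natCard_eq_pow_finrank (ZMod r) K _ _ Algebra.toModule _).trans (by
        rw [Nat.card_zmod])).symm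
    rw [smul_eq_mul]
  have hr2 := hr.two_le
  have hbase : r ^ o ≤ Nat.card K ^ s.card := by
    rw [hKcard, ← pow_mul]
    exact Nat.pow_le_pow_right hr.pos (by rw [mul_comm]; exact ho)
  have hKle : 1 ≤ dK := Module.finrank_pos
  rcases Nat.lt_or_ge dK 2 with hd1 | hd2
  · -- commutative centraliser
    left
    have hdK1 : dK = 1 := by omega
    have hHc : ∀ a b : H, a * b = b * a := by
      intro a b
      obtain ⟨u0, hu0⟩ := exists_ne (0 : U)
      have hgen : ∀ u : U, ∃ c : K, c • u0 = u := (finrank_eq_one_iff_of_nonzero' u0 hu0).mp hdK1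
      have hlin : ∀ (g : H) (c : K) (u : U), g • c • u = c • g • u := by
        intro g c u
        have := toEnd_commute_genRing (a := g) (fun y hy =>
          Subgroup.mem_center_iff.mp ((Subgroup.zpowers_le.mpr hwc) hy) g) c.1 c.2
        exact congrArg (fun f : AddMonoid.End U => f u) this
      obtain ⟨x, hx⟩ := hgen (a • u0)
      obtain ⟨y, hy⟩ := hgen (b • u0)
      refine FaithfulSMul.eq_of_smul_eq_smul (α := U) fun u => ?_
      obtain ⟨c, rfl⟩ := hgen u
      rw [mul_smul, mul_smul, hlin, hlin, hlin, hlin, ← hy, ← hx, hlin, hlin, ← hx, ← hy, smul_comm x y]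
    refine ⟨?_, ?_⟩
    · have hCc : CPB Cz 1 := cpb_of_comm fun c c' => hψ (by
        rw [map_mul, map_mul]; exact funext fun a => hHc _ _)
      simpa using cpb_of_subgroup Cz hCc
    · calc 2 ^ o ≤ r ^ o := Nat.pow_le_pow_left hr2 o
        _ ≤ Nat.card K ^ s.card := hbase
        _ = Nat.card V := by rw [hVs, hUcard, hdK1, pow_one]
  · right
    refine ⟨C1 ^ s.card, cpb_of_subgroup Cz hCcpb, ?_, ?_⟩
    · calc (9 * C1 ^ s.card) ^ 3 ≤ ((9 * C1) ^ s.card) ^ 3 := by
            rw [mul_pow 9 C1 s.card]
            exact Nat.pow_le_pow_left (Nat.mul_le_mul_right _ (Nat.le_self_pow (by omega) 9)) 3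
        _ ≤ ((16 ^ d) ^ s.card) ^ 3 := Nat.pow_le_pow_left (Nat.pow_le_pow_left hC1d _) 3
        _ = (64 ^ d) ^ (2 * s.card) := by
            rw [← pow_mul, ← pow_mul, ← pow_mul, show (64 : ℕ) = 2 ^ 6 from rfl,
              show (16 : ℕ) = 2 ^ 4 from rfl, ← pow_mul, ← pow_mul]
            congr 1
            ring
        _ ≤ ((p + 1) ^ d) ^ (2 * s.card) := Nat.pow_le_pow_left (Nat.pow_le_pow_left (by omega) d) _
        _ ≤ Nat.card U ^ (2 * s.card) := Nat.pow_le_pow_left hd _
        _ = Nat.card V ^ 2 := by rw [hVs, ← pow_mul, mul_comm]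
    · calc 4 ^ o = (2 ^ o) ^ 2 := by rw [← pow_mul, mul_comm, pow_mul]; norm_num
        _ ≤ (r ^ o) ^ 2 := Nat.pow_le_pow_left (Nat.pow_le_pow_left hr2 o) 2
        _ ≤ (Nat.card K ^ s.card) ^ 2 := Nat.pow_le_pow_left hbase 2
        _ = Nat.card K ^ (s.card * 2) := (pow_mul _ _ _).symm
        _ ≤ Nat.card K ^ (dK * s.card) :=
            Nat.pow_le_pow_right Nat.card_pos (by rw [mul_comm s.card]; exact Nat.mul_le_mul_right _ hd2)
        _ = Nat.card V := by rw [hVs, hUcard, pow_mul]

end Cfsg.Agent.ClassLinear
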