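import Cfsg.Agent.Lib.Grp.ClassLinear.LayerClasses
import Cfsg.Agent.Lib.Grp.ClassLinear.CentralBound

/-!
# Classes modulo the Fitting subgroup of a solvable linear group

If a solvable completely reducible group on `V` has a central element of order `N` whose nontrivial
powers fix no nonzero vector, then every subgroup of the quotient by the Fitting subgroup has at most
`3 ^ (d - 1)` classes for some `d ≥ 1` with `(N + 1) ^ d ≤ |V|`.
-/

set_option autoImplicit false
set_option linter.style.haveILetI false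

universe u

namespace Cfsg.Agent.ClassLinear

open SqClass BaseTwo
open scoped commutatorElement

theorem le_three_pow_pred : ∀ f : ℕ, f ≤ 3 ^ (f - 1)
  | 0 => by omega
  | f + 1 => by
    rw [Nat.add_sub_cancel]
    exact Nat.lt_pow_self (by norm_num)

theorem mul_three_pow_le {f e dK : ℕ} (hf : 1 ≤ f) (he : 1 ≤ e) (hed : e ≤ dK) :
    f * 3 ^ (e - 1) ≤ 3 ^ (f * dK - 1) := by
  refine (Nat.mul_le_mul_right _ (le_three_pow_pred f)).trans ?_
  rw [← pow_add]
  refine Nat.pow_le_pow_right (by norm_num) ?_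
  obtain ⟨f, rfl⟩ := Nat.exists_eq_add_of_le' hf
  have h1 : f + e ≤ (f + 1) * dK := by
    calc f + e ≤ f * e + e := Nat.add_le_add_right (Nat.le_mul_of_pos_right f he) e
      _ = (f + 1) * e := by ring
      _ ≤ (f + 1) * dK := Nat.mul_le_mul_left _ hed
  omega

theorem root_le_three_pow {n T : ℕ} (hT : T ^ 3 ≤ 24 ^ (n - 1)) : T ≤ 3 ^ (n - 1) := by
  refine le_of_pow_le_pow_left₀ (n := 3) (by norm_num) (Nat.zero_le _) ?_
  calc T ^ 3 ≤ 24 ^ (n - 1) := hT
    _ ≤ 27 ^ (n - 1) := Nat.pow_le_pow_left (by norm_num) _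
    _ = (3 ^ (n - 1)) ^ 3 := by rw [← pow_mul, mul_comm, pow_mul]; norm_num

/-- A group whose commutators are central is nilpotent. -/
theorem isNilpotent_of_commutator_central {M : Type*} [Group M] (h : ∀ a b : M, ⁅a, b⁆ ∈ Subgroup.center M) :
    Group.IsNilpotent M := by
  letI : CommGroup (M ⧸ Subgroup.center M) :=
    { (inferInstance : Group (M ⧸ Subgroup.center M)) with
      mul_comm := fun x y => by
        obtain ⟨a, rfl⟩ := QuotientGroup.mk_surjective x
        obtain ⟨b, rfl⟩ := QuotientGroup.mk_surjective y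
        rw [← QuotientGroup.mk_mul, ← QuotientGroup.mk_mul, QuotientGroup.eq]
        have e : (a * b)⁻¹ * (b * a) = ⁅b⁻¹, a⁻¹⁆ := by simp only [commutatorElement_def]; group
        rw [e]
        exact h _ _ }
  exact Group.of_quotient_center_nilpotent inferInstance

theorem layer_nilpotent {A V K : Type u} [Group A] [AddCommGroup V] [DistribMulAction A V] [Field K]
    [Module K V] {Z : Subgroup A} {D : SemiData A V K Z} (L : LayerData D) : Group.IsNilpotent L.M := by
  refine isNilpotent_of_commutator_central fun a b => Subgroup.mem_center_iff.mpr fun g => Subtype.ext ?_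
  show (g : A) * ⁅(a : A), (b : A)⁆ = ⁅(a : A), (b : A)⁆ * (g : A)
  exact (Subgroup.mem_centralizer_iff.mp (L.M_le g.2) _ (L.comm_mem a a.2 b b.2)).symm

/-- Classes of the quotient by the layer. -/
theorem subK_mod_layer {A V K : Type u} [Group A] [Finite A] [AddCommGroup V] [Finite V] [Nontrivial V]
    [DistribMulAction A V] [FaithfulSMul A V] [Field K] [Finite K] [Module K V] {Z : Subgroup A}
    [Z.Normal] {D : SemiData A V K Z} (L : LayerData D) (hsol : Group.IsSolvable A) {e : ℕ}
    (he : Nat.card L.W = e * e) :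
    haveI := L.normal
    SubK (A ⧸ L.M) ((Subgroup.centralizer (Z : Set A)).index * 3 ^ (e - 1)) := by
  haveI := L.normal
  set C := Subgroup.centralizer (Z : Set A) with hC
  let g0 : C →* A ⧸ L.M := (QuotientGroup.mk' L.M).comp C.subtype
  let ψ : C →* MulAut L.W := L.φ.comp C.subtype
  have hg0 : g0.ker = L.M.subgroupOf C := by
    ext x
    rw [MonoidHom.mem_ker, Subgroup.mem_subgroupOf]
    exact QuotientGroup.eq_one_iff _
  have hψk : ψ.ker = L.M.subgroupOf C := by
    ext x
    rw [MonoidHom.mem_ker, Subgroup.mem_subgroupOf]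
    exact L.ker x x.2
  have hr0 : g0.range = C.map (QuotientGroup.mk' L.M) := by
    rw [MonoidHom.range_comp, Subgroup.range_subtype]
  have hrψ : ψ.range = L.S := by
    rw [MonoidHom.range_comp, Subgroup.range_subtype]
  let ee : C.map (QuotientGroup.mk' L.M) ≃* L.S :=
    ((((QuotientGroup.quotientKerEquivRange g0).trans (MulEquiv.subgroupCongr hr0)).symm.trans
      (QuotientGroup.quotientMulEquivOfEq (hg0.trans hψk.symm))).trans
      (QuotientGroup.quotientKerEquivRange ψ)).trans (MulEquiv.subgroupCongr hrψ)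
  refine SubK.of_index (C.map (QuotientGroup.mk' L.M))
    ((subK_layer L hsol he).of_injective ee.toMonoidHom ee.injective) ?_
  rw [Subgroup.index_map_eq _ (QuotientGroup.mk'_surjective L.M)
    (by rw [QuotientGroup.ker_mk']; exact L.M_le)]

/-- The primitive case. -/
theorem prim_qk {V : Type u} [AddCommGroup V] [Finite V] [Nontrivial V]
    {A : Subgroup (AddMonoid.End V)ˣ} (hsol : Group.IsSolvable A) {N p a : ℕ} (P : Prim A V p a)
    {z : A} (hzc : z ∈ Subgroup.center A) (hzZ : z ∈ P.Z) (hz : orderOf z = N) :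
    ∃ d, 1 ≤ d ∧ QK A (3 ^ (d - 1)) ∧ (N + 1) ^ d ≤ Nat.card V := by
  haveI : FaithfulSMul A V := ⟨fun {a b} h => Subtype.ext (Units.ext (AddMonoidHom.ext h))⟩
  haveI : Finite A := Finite.of_injective _ Subtype.val_injective
  obtain ⟨hf1, hdK1, hV⟩ := prim_data P hzc hzZ hz
  letI := P.fld; haveI := P.fin; letI := P.mod; haveI := P.normal
  set f := (Subgroup.centralizer (P.Z : Set A)).index with hf
  set dK := Module.finrank P.K V with hdK
  refine ⟨f * dK, Nat.one_le_iff_ne_zero.mpr (by positivity), ?_, hV⟩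
  rcases P.layer with hZC | ⟨⟨L⟩⟩
  · have hZnil : Group.IsNilpotent P.Z := isNilpotent_of_commutator_central fun a b =>
      Subgroup.mem_center_iff.mpr fun g => Subtype.ext (P.comm g g.2 _ (⁅a, b⁆ : P.Z).2)
    refine qk_of_quotient P.Z (Grp.le_fittingSubgroup P.normal hZnil) (subK_of_card_le ?_)
    rw [← Subgroup.index_eq_card, hZC, ← hf]
    refine (le_three_pow_pred f).trans (Nat.pow_le_pow_right (by norm_num) ?_)
    exact Nat.sub_le_sub_right (Nat.le_mul_of_pos_right f hdK1) 1
  · obtain ⟨e, he⟩ := exists_card_eq_sq L.b L.alt L.nd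
    have hed : e ≤ dK := Nat.mul_self_le_mul_self_iff.mp (by rw [← he]; exact L.card_W_le)
    have hW1 := L.one_lt_card
    have he2 : 2 ≤ e := by
      by_contra h
      interval_cases e <;> omega
    haveI := L.normal
    exact qk_of_quotient L.M (Grp.le_fittingSubgroup L.normal (layer_nilpotent L))
      ((subK_mod_layer L hsol he).mono (mul_three_pow_le hf1 (by omega) hed))

/-- Central elements pass to faithful invariant summands. -/
theorem hasCentral_of_surjective {V U : Type u} [AddCommGroup V] [AddCommGroup U] [Nontrivial U]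
    {A : Subgroup (AddMonoid.End V)ˣ} {H : Subgroup (AddMonoid.End U)ˣ} {N : ℕ} (h : HasCentral A N)
    (f : A →* H) (hf : Function.Surjective f) (ι : U →+ V) (hι : Function.Injective ι)
    (hfι : ∀ (a : A) (u : U), a • ι u = ι (f a • u)) : HasCentral H N := by
  obtain ⟨z, hzc, hz, hfpf⟩ := h
  have hone : ∀ k : ℕ, f z ^ k = 1 ↔ z ^ k = 1 := by
    intro k
    refine ⟨fun hk => ?_, fun hk => by rw [← map_pow, hk, map_one]⟩
    by_contra hzk
    obtain ⟨u, hu⟩ := exists_ne (0 : U)
    refine hfpf k hzk (ι u) (fun h0 => hu (hι (by rw [h0, map_zero]))) ?_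
    rw [hfι, map_pow, hk, one_smul]
  refine ⟨f z, ?_, (orderOf_eq_orderOf_iff.mpr hone).trans hz, fun k hk u hu e => ?_⟩
  · rw [Subgroup.mem_center_iff]
    intro y
    obtain ⟨x, rfl⟩ := hf y
    rw [← map_mul, ← map_mul, Subgroup.mem_center_iff.mp hzc x]
  · refine hfpf k (fun h1 => hk ((hone k).mpr h1)) (ι u) (fun h0 => hu (hι (by rw [h0, map_zero]))) ?_
    rw [hfι, map_pow, e]

/-- The induction. -/
theorem qk_central_aux {N : ℕ} : ∀ (m : ℕ) (V : Type u) [AddCommGroup V] [Finite V]
    [Nontrivial V] (A : Subgroup (AddMonoid.End V)ˣ), Nat.card V ≤ m → Group.IsSolvable A →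
    IsCR A V → HasCentral A N →
    ∃ d, 1 ≤ d ∧ QK A (3 ^ (d - 1)) ∧ (N + 1) ^ d ≤ Nat.card V := by
  intro m
  induction m with
  | zero => intro V _ _ _ A h; have : 0 < Nat.card V := Nat.card_pos; omega
  | succ m IH =>
    intro V _ _ _ A hm hsol hcr hzA
    haveI : FaithfulSMul A V := ⟨fun {a b} h => Subtype.ext (Units.ext (AddMonoidHom.ext h))⟩
    haveI : Finite A := Finite.of_injective _ Subtype.val_injective
    haveI := hsol
    by_cases hirr : IsIrr A V
    · obtain ⟨r, hr, hrV⟩ := BaseThree.exists_prime_nsmul_eq_zero hirr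
      haveI := Fact.mk hr
      obtain ⟨a, ha⟩ := card_eq_pow_of_smul (r := r) hrV
      obtain ⟨z, hzc, hz, hfpf⟩ := hzA
      rcases blocks_or_prim' A hsol hirr ha with ⟨D, hD⟩ | ⟨P, hP⟩
      · obtain ⟨B, _, _, _, H, n, T, ⟨hHirr, hHsol, hn, hVB, hT, -, -, -⟩, hcent, K, hKn, hKT, ψ, hψ, -⟩ :=
          exists_block_group' hirr hsol D
        obtain ⟨w, hwc, hw, hwf⟩ := hcent z hzc (hD z hzc) hfpf
        have hBlt : Nat.card B < Nat.card V := by
          rw [hVB]
          calc Nat.card B = Nat.card B ^ 1 := (pow_one _).symm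
            _ < Nat.card B ^ n := Nat.pow_lt_pow_right Finite.one_lt_card hn
        obtain ⟨d, hd1, hd, hdB⟩ :=
          IH B H (by omega) hHsol (isCR_of_isIrr hHirr) ⟨w, hwc, hw.trans hz, hwf⟩
        haveI := hKn
        haveI : Finite H := Finite.of_injective _ Subtype.val_injective
        refine ⟨d * n, Nat.one_le_iff_ne_zero.mpr (by positivity),
          (hd.of_blocks K hKT ψ hψ).mono ?_, ?_⟩
        · refine (Nat.mul_le_mul_right _ (root_le_three_pow hT)).trans ?_
          rw [← pow_mul, ← pow_add]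
          refine Nat.pow_le_pow_right (by norm_num) (le_of_eq ?_)
          rw [Nat.sub_mul, one_mul]
          have : n ≤ d * n := Nat.le_mul_of_pos_left n hd1
          omega
        · rw [hVB, pow_mul]
          exact Nat.pow_le_pow_left hdB n
      · exact prim_qk hsol P hzc (hP hzc) hz
    · obtain ⟨U, W, _, _, _, _, _, _, H, J, f, g, ι, κ, hVc, hι, hκ, hfι, hgκ, hf, hg, hHcr, hJcr, hfg⟩ :=
        exists_split hcr hirr
      haveI : Finite H := Finite.of_surjective _ hf
      haveI : Finite J := Finite.of_surjective _ hg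
      have hU2 : 2 ≤ Nat.card U := Finite.one_lt_card
      have hW2 : 2 ≤ Nat.card W := Finite.one_lt_card
      obtain ⟨d1, hd1, hq1, hU⟩ := IH U H (by nlinarith) (Group.isSolvable_of_surjective hf) hHcr
        (hasCentral_of_surjective hzA f hf ι hι hfι)
      obtain ⟨d2, hd2, hq2, hW⟩ := IH W J (by nlinarith) (Group.isSolvable_of_surjective hg) hJcr
        (hasCentral_of_surjective hzA g hg κ hκ hgκ)
      refine ⟨d1 + d2, by omega, (hq1.prod hq2 (f.prod g) hfg).mono ?_, ?_⟩
      · rw [← pow_add]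
        exact Nat.pow_le_pow_right (by norm_num) (by omega)
      · rw [hVc, pow_add]
        exact Nat.mul_le_mul hU hW

/-- The bound. -/
theorem qk_central {V : Type u} [AddCommGroup V] [Finite V] [Nontrivial V] {N : ℕ}
    (A : Subgroup (AddMonoid.End V)ˣ) (hsol : Group.IsSolvable A) (hcr : IsCR A V)
    (hz : HasCentral A N) : ∃ d, 1 ≤ d ∧ QK A (3 ^ (d - 1)) ∧ (N + 1) ^ d ≤ Nat.card V :=
  qk_central_aux _ V A le_rfl hsol hcr hz

end Cfsg.Agent.ClassLinear
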