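import Cfsg.Agent.Lib.Grp.ClassLinear.SemiBound
import Cfsg.Agent.Lib.Grp.Frattini
import Cfsg.Agent.Lib.Fus.SupersolubleMetacyclic
import Cfsg.Agent.Lib.Block.ClassNumber

/-!
# Classes of a solvable group without `p'`-core

A solvable group with trivial `p'`-core whose order has `p`-part at most `p ^ d`, with `d ≥ 1`, has
at most `3 ^ (d - 1) * p ^ d` classes.
-/

set_option autoImplicit false
set_option linter.style.haveILetI false

universe u

namespace Cfsg.Agent.ClassLinear

open SqClass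

/-- Automorphisms as linear maps. -/
def endHom (V : Type u) [CommGroup V] : MulAut V →* (AddMonoid.End (Additive V))ˣ :=
  MonoidHom.toHomUnits
    { toFun := fun φ => MonoidHom.toAdditive φ.toMonoidHom
      map_one' := rfl
      map_mul' := fun _ _ => rfl }

theorem endHom_injective (V : Type u) [CommGroup V] : Function.Injective (endHom V) := fun φ ψ e =>
  MulEquiv.ext fun v => Additive.ofMul.injective (congrArg
    (fun t : (AddMonoid.End (Additive V))ˣ => (t : AddMonoid.End (Additive V)) (Additive.ofMul v)) e)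

/-- The split extension bound. -/
theorem classes_elementary {p m : ℕ} [Fact p.Prime] {Y : Type u} [Group Y] [Finite Y]
    [Group.IsSolvable Y] (V : Subgroup Y) [V.Normal] (hm : 1 ≤ m) (hV : Nat.card V = p ^ m)
    (hab : ∀ a ∈ V, ∀ b ∈ V, a * b = b * a) (hexp : ∀ v ∈ V, v ^ p = 1)
    (hself : Subgroup.centralizer (V : Set Y) ≤ V) (hno : NoP p (Y ⧸ V)) :
    Nat.card (ConjClasses Y) ≤ 3 ^ (m - 1) * p ^ m := by
  letI : CommGroup V :=
    { (inferInstance : Group V) with mul_comm := fun a b => Subtype.ext (hab a a.2 b b.2) }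
  let φ : Y ⧸ V →* MulAut V := QuotientGroup.lift V MulAut.conjNormal fun v hv => MulEquiv.ext fun w =>
    Subtype.ext (by
      rw [MulAut.conjNormal_apply, MulAut.one_apply, hab v hv w w.2, mul_inv_cancel_right])
  have hφ : ∀ (x : Y) (v : V), ((φ (QuotientGroup.mk x) v : V) : Y) = x * v * x⁻¹ := fun x v =>
    MulAut.conjNormal_apply x v
  refine (Block.ClassNumber.classNumber_le_split V hab φ hφ).trans ?_
  let f : Y ⧸ V →* (AddMonoid.End (Additive V))ˣ := (endHom V).comp φ
  have hf : Function.Injective f := by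
    rw [injective_iff_map_eq_one]
    intro x hx
    obtain ⟨y, rfl⟩ := QuotientGroup.mk_surjective x
    have h1 : φ (QuotientGroup.mk y) = 1 := endHom_injective V (hx.trans (map_one _).symm)
    refine (QuotientGroup.eq_one_iff y).mpr (hself (Subgroup.mem_centralizer_iff.mpr fun v hv => ?_))
    have h2 := hφ y ⟨v, hv⟩
    rw [h1, MulAut.one_apply] at h2
    exact eq_mul_inv_iff_mul_eq.mp h2
  have e : SemidirectProduct V (Y ⧸ V) φ ≃* SD f :=
    SemidirectProduct.congr
      ({ toFun := fun v => Multiplicative.ofAdd (Additive.ofMul v)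
         invFun := fun v => v.toAdd.toMul
         left_inv := fun _ => rfl
         right_inv := fun _ => rfl
         map_mul' := fun _ _ => rfl } : V ≃* Multiplicative (Additive V))
      (MulEquiv.refl _) fun l => MulEquiv.ext fun v => rfl
  rw [card_conjClasses_congr e, classes_sd_range f hf]
  haveI : Finite f.range := Finite.of_surjective _ f.rangeRestrict_surjective
  exact classes_sd_bound m p (Additive V) hm
    (fun x => Additive.toMul.injective (Subtype.ext (by
      show ((x.toMul ^ p : V) : Y) = 1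
      rw [SubmonoidClass.coe_pow]
      exact hexp _ x.toMul.2)))
    ((Nat.card_congr Additive.toMul).trans hV) f.range
    (Group.isSolvable_of_surjective f.rangeRestrict_surjective) (hno.congr (MonoidHom.ofInjective hf))

/-- The bound. -/
theorem classes_noCore {p d : ℕ} [hp : Fact p.Prime] {X : Type u} [Group X] [Finite X]
    [Group.IsSolvable X] (hcore : Cfsg.pPrimeCore p X = ⊥) (hd : 1 ≤ d)
    (hX : (Nat.card X).factorization p ≤ d) : Nat.card (ConjClasses X) ≤ 3 ^ (d - 1) * p ^ d := by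
  classical
  set F := Cfsg.pCore p X with hF
  haveI : F.Normal := Grp.pCore_isNormal
  have hFp : IsPGroup p F := Grp.pCore_isPGroup
  obtain ⟨j, hj⟩ := IsPGroup.iff_card.mp hFp
  have hjd : j ≤ d := by
    refine le_trans ?_ hX
    exact (hp.out.pow_dvd_iff_le_factorization Nat.card_pos.ne').mp (hj ▸ F.card_subgroup_dvd_card)
  have hcent := Grp.centralizer_pCore_le (G := X) hcore
  by_cases hFtriv : F = ⊥
  · have htop : Subgroup.centralizer (F : Set X) = ⊤ := by
      rw [eq_top_iff]
      intro x _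
      refine Subgroup.mem_centralizer_iff.mpr fun h hh => ?_
      rw [hFtriv] at hh
      rw [Subgroup.mem_bot.mp hh, one_mul, mul_one]
    have h1 : (⊤ : Subgroup X) ≤ ⊥ := hFtriv ▸ htop ▸ hcent
    haveI : Subsingleton X :=
      ⟨fun a b => (Subgroup.mem_bot.mp (h1 (Subgroup.mem_top a))).trans
        (Subgroup.mem_bot.mp (h1 (Subgroup.mem_top b))).symm⟩
    refine card_classes_le.trans ?_
    rw [Nat.card_unique]
    exact Nat.one_le_iff_ne_zero.mpr (mul_ne_zero (pow_ne_zero _ (by norm_num))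
      (pow_ne_zero _ hp.out.ne_zero))
  set Φ := (frattini F).map F.subtype with hΦ
  haveI : Φ.Normal := Grp.normal_of_characteristic_map _
  have hΦF : Φ ≤ F := Subgroup.map_subtype_le _
  set π := QuotientGroup.mk' Φ with hπ
  have hπs : Function.Surjective π := QuotientGroup.mk'_surjective Φ
  set V := F.map π with hV
  haveI : V.Normal := Subgroup.Normal.map inferInstance π hπs
  have hmemΦ : ∀ x : F, (x : X) ∈ Φ ↔ x ∈ frattini F := fun x =>
    ⟨fun ⟨y, hy, e⟩ => Subtype.ext e ▸ hy, fun h => ⟨x, h, rfl⟩⟩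
  -- the order of the elementary quotient
  have hVidx : Nat.card V * Nat.card Φ = Nat.card F := by
    have h1 : Nat.card V = Φ.relIndex F := by
      rw [hV, ← Subgroup.relIndex_ker, hπ, QuotientGroup.ker_mk']
    rw [h1, mul_comm, Subgroup.relIndex, ← Nat.card_congr (Subgroup.subgroupOfEquivOfLe hΦF).toEquiv,
      Subgroup.card_mul_index]
  obtain ⟨m, hmj, hm⟩ := (Nat.dvd_prime_pow hp.out).mp (show Nat.card V ∣ p ^ j from hj ▸ Dvd.intro _ hVidx)
  have hm1 : 1 ≤ m := by
    by_contra h0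
    rw [show m = 0 by omega, pow_zero] at hm
    haveI : Nontrivial F := (Subgroup.nontrivial_iff_ne_bot F).mpr hFtriv
    have hnt : frattini F = ⊤ := by
      rw [eq_top_iff]
      intro x _
      refine (hmemΦ x).mp ((QuotientGroup.eq_one_iff _).mp ?_)
      exact Subgroup.mem_bot.mp (Subgroup.eq_bot_of_card_eq V hm ▸ ⟨x, x.2, rfl⟩ : π x ∈ (⊥ : Subgroup (X ⧸ Φ)))
    obtain ⟨M, hM, -⟩ := (eq_top_or_exists_le_coatom (⊥ : Subgroup F)).resolve_left bot_ne_top
    exact hM.1 (top_le_iff.mp (hnt ▸ frattini_le_coatom hM))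
  -- elementary
  have hab : ∀ a ∈ V, ∀ b ∈ V, a * b = b * a := by
    rintro _ ⟨a, ha, rfl⟩ _ ⟨b, hb, rfl⟩
    rw [← map_mul, ← map_mul, hπ]
    refine QuotientGroup.eq.mpr ?_
    have h1 : ((⟨a, ha⟩ : F) * ⟨b, hb⟩)⁻¹ * (⟨b, hb⟩ * ⟨a, ha⟩) ∈ frattini F := by
      refine Grp.pGroup_commutator_le_frattini hFp ?_
      rw [commutator_def]
      have e : ((⟨a, ha⟩ : F) * ⟨b, hb⟩)⁻¹ * (⟨b, hb⟩ * ⟨a, ha⟩) =
          (⟨b, hb⟩ : F)⁻¹ * (⟨a, ha⟩ : F)⁻¹ * ((⟨b, hb⟩ : F)⁻¹)⁻¹ * ((⟨a, ha⟩ : F)⁻¹)⁻¹ := by group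
      rw [e, ← commutatorElement_def]
      exact Subgroup.commutator_mem_commutator (Subgroup.mem_top _) (Subgroup.mem_top _)
    exact (hmemΦ _).mpr h1
  have hexp : ∀ v ∈ V, v ^ p = 1 := by
    rintro _ ⟨a, ha, rfl⟩
    rw [← map_pow]
    exact (QuotientGroup.eq_one_iff _).mpr ((hmemΦ (⟨a, ha⟩ ^ p)).mpr
      (Grp.pGroup_pow_mem_frattini hFp _))
  -- self centralising
  have hself : Subgroup.centralizer (V : Set (X ⧸ Φ)) ≤ V := by
    set C := (Subgroup.centralizer (V : Set (X ⧸ Φ))).comap π with hC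
    haveI : C.Normal := Subgroup.Normal.comap inferInstance π
    have hCp : IsPGroup p C := by
      refine IsPGroup.of_card (Nat.eq_prime_pow_of_unique_prime_dvd Nat.card_pos.ne' fun {q} hq hqC => ?_)
      by_contra hqp
      haveI := Fact.mk hq
      obtain ⟨x, hx⟩ := exists_prime_orderOf_dvd_card' (G := C) q hqC
      rw [← Subgroup.orderOf_coe] at hx
      let β : MulAut F := MulAut.conjNormal (x : X)
      have hβ : β = 1 := by
        refine Fus.SuperMeta.eq_one_of_coprime_frattini hFp (m := q)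
          ((Nat.coprime_primes hq hp.out).mpr hqp) ?_ fun y => ?_
        · rw [← map_pow, ← hx, pow_orderOf_eq_one, map_one]
        · rw [← hmemΦ, ← QuotientGroup.eq_one_iff]
          show π ((y : X)⁻¹ * ((β y : F) : X)) = 1
          rw [MulAut.conjNormal_apply, map_mul, map_mul, map_mul, map_inv, map_inv,
            ← Subgroup.mem_centralizer_iff.mp x.2 (π y) ⟨y, y.2, rfl⟩, mul_inv_cancel_right,
            inv_mul_cancel]
      have hxc : (x : X) ∈ Subgroup.centralizer (F : Set X) := by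
        refine Subgroup.mem_centralizer_iff.mpr fun h hh => ?_
        have h1 : ((β ⟨h, hh⟩ : F) : X) = h := by rw [hβ]; rfl
        rw [MulAut.conjNormal_apply] at h1
        exact (mul_inv_eq_iff_eq_mul.mp h1).symm
      obtain ⟨i, hi⟩ := IsPGroup.iff_orderOf.mp hFp ⟨x, hcent hxc⟩
      rw [Subgroup.orderOf_mk, hx] at hi
      exact hqp ((Nat.prime_dvd_prime_iff_eq hq hp.out).mp (hq.dvd_of_dvd_pow hi.dvd))
    intro v hv
    obtain ⟨x, rfl⟩ := hπs v
    exact ⟨x, Grp.le_pCore inferInstance hCp hv, rfl⟩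
  have hno : NoP p ((X ⧸ Φ) ⧸ V) := by
    intro N hN hNp
    let q : X →* (X ⧸ Φ) ⧸ V := (QuotientGroup.mk' V).comp π
    have hq : Function.Surjective q := (QuotientGroup.mk'_surjective V).comp hπs
    have hqk : q.ker = F := by
      rw [← MonoidHom.comap_ker, QuotientGroup.ker_mk', hV,
        Subgroup.comap_map_eq, QuotientGroup.ker_mk', sup_eq_left.mpr hΦF]
    have h1 : N.comap q ≤ F := Grp.le_pCore (hN.comap q)
      (hNp.comap_of_ker_isPGroup q (hqk ▸ hFp))
    rw [← Subgroup.map_comap_eq_self_of_surjective hq N, eq_bot_iff]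
    rintro _ ⟨x, hx, rfl⟩
    exact Subgroup.mem_bot.mpr (MonoidHom.mem_ker.mp (hqk.symm ▸ h1 hx))
  have hY := classes_elementary (m := m) V hm1 hm hab hexp hself hno
  have hm3 : 3 ^ (m - 1) * p ^ j ≤ 3 ^ (d - 1) * p ^ d :=
    Nat.mul_le_mul (Nat.pow_le_pow_right (by norm_num) (by omega))
      (Nat.pow_le_pow_right hp.out.pos hjd)
  refine (classes_le_mul Φ).trans (le_trans (Nat.mul_le_mul card_classes_le hY) (le_of_eq_of_le ?_ hm3))
  rw [← hj, ← hVidx, hm]
  ring

end Cfsg.Agent.ClassLinear
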