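import Cfsg.Agent.Lib.Grp.ClassLinear.SmallLinear

/-!
# Class numbers in the group acting on a layer
-/

set_option autoImplicit false
set_option linter.style.haveILetI false

universe u

namespace Cfsg.Agent.ClassLinear

open SqClass BaseTwo

/-- Small centralisers outside a small set bound the classes of every subgroup. -/
theorem subK_of_centralizer {G : Type*} [Group G] [Fintype G] [DecidableEq G] (Z : Finset G) (c : ℕ)
    (h : ∀ a, a ∈ Z ∨ (Finset.univ.filter fun b => a * b = b * a).card ≤ c) :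
    SubK G (Z.card + c) := by
  intro X
  refine classes_le_add {x : X | (x : G) ∈ Z} ?_ fun x hx => ?_
  · rw [← Nat.card_coe_set_eq, ← Nat.card_eq_finsetCard Z]
    exact Nat.card_le_card_of_injective (fun x => ⟨((x : X) : G), x.2⟩)
      fun a b e => Subtype.ext (Subtype.ext (congrArg Subtype.val e :))
  · refine le_trans ?_ ((h x).resolve_left hx)
    rw [← Nat.card_eq_finsetCard]
    refine Nat.card_le_card_of_injective (fun y => ⟨((y : X) : G), Finset.mem_filter.mpr
      ⟨Finset.mem_univ _, (congrArg Subtype.val (Subgroup.mem_centralizer_singleton_iff.mp y.2)).symm⟩⟩)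
      fun a b e => Subtype.ext (Subtype.ext (congrArg Subtype.val e :))

theorem subK_SL_three : SubK (Matrix.SpecialLinearGroup (Fin 2) (ZMod 3)) 9 :=
  (subK_of_centralizer {1, -1} 6 (by decide +kernel)).mono (by
    have : ({1, -1} : Finset (Matrix.SpecialLinearGroup (Fin 2) (ZMod 3))).card ≤ 2 := Finset.card_le_two
    omega)

theorem subK_SL_five : SubK (Matrix.SpecialLinearGroup (Fin 2) (ZMod 5)) 81 :=
  (subK_of_centralizer {1, -1} 10 (by decide +kernel)).mono (by
    have : ({1, -1} : Finset (Matrix.SpecialLinearGroup (Fin 2) (ZMod 5))).card ≤ 2 := Finset.card_le_two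
    omega)

theorem card_SL_seven : Nat.card (Matrix.SpecialLinearGroup (Fin 2) (ZMod 7)) = 336 := by
  rw [Nat.card_eq_fintype_card]; decide +kernel

theorem six_pow_le {e : ℕ} (he : 14 ≤ e) : (e * e) ^ 3 ≤ 5 * 3 ^ (e - 1) := by
  induction e, he using Nat.le_induction with
  | base => norm_num
  | succ m hm ih =>
    have h1 : 14 * (m + 1) ≤ 15 * m := by omega
    have h2 := Nat.pow_le_pow_left h1 6
    rw [mul_pow, mul_pow] at h2
    norm_num at h2
    rw [show m + 1 - 1 = m - 1 + 1 by omega, pow_succ 3 (m - 1)]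
    have e1 : ((m + 1) * (m + 1)) ^ 3 = (m + 1) ^ 6 := by ring
    have e2 : (m * m) ^ 3 = m ^ 6 := by ring
    omega

section Range

variable {R V : Type u} [Group R] [Finite R] [Group.IsSolvable R] [AddCommGroup V] [Finite V]
  [DistribMulAction R V] [FaithfulSMul R V]

/-- A group acting on a module of two coprime exponents. -/
theorem exists_coprime_split (hcr : IsCR R V) {m m' : ℕ} (hmm : m.Coprime m')
    (hV : ∀ x : V, (m * m') • x = 0) :
    ∃ (U W : Type u) (_ : AddCommGroup U) (_ : Finite U) (_ : AddCommGroup W) (_ : Finite W)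
      (H : Subgroup (AddMonoid.End U)ˣ) (J : Subgroup (AddMonoid.End W)ˣ) (f : R →* H) (g : R →* J),
      Nat.card V = Nat.card U * Nat.card W ∧ (∀ x : U, m • x = 0) ∧ (∀ x : W, m' • x = 0) ∧
      Function.Surjective f ∧ Function.Surjective g ∧ IsCR H U ∧ IsCR J W ∧
      Function.Injective (f.prod g) := by
  let U : AddSubgroup V := (nsmulAddMonoidHom m : V →+ V).ker
  let W : AddSubgroup V := (nsmulAddMonoidHom m' : V →+ V).ker
  have hmem : ∀ (k : ℕ) (x : V), x ∈ (nsmulAddMonoidHom k : V →+ V).ker ↔ k • x = 0 := fun _ _ => Iff.rfl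
  have hU : IsInv R U := fun a x hx => (hmem m _).mpr (by rw [smul_comm, (hmem m x).mp hx, smul_zero])
  have hW : IsInv R W := fun a x hx => (hmem m' _).mpr (by rw [smul_comm, (hmem m' x).mp hx, smul_zero])
  have hinf : U ⊓ W = ⊥ := by
    rw [eq_bot_iff]
    rintro x ⟨h1, h2⟩
    rw [AddSubgroup.mem_bot, ← AddMonoid.addOrderOf_eq_one_iff]
    exact Nat.eq_one_of_dvd_coprimes hmm (addOrderOf_dvd_of_nsmul_eq_zero h1)
      (addOrderOf_dvd_of_nsmul_eq_zero h2)
  have hsup : U ⊔ W = ⊤ := by
    rw [eq_top_iff]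
    intro x _
    have hb := Nat.gcd_eq_gcd_ab m m'
    rw [hmm.gcd_eq_one] at hb
    have e : x = ((m.gcdB m' * (m' : ℤ)) • x) + ((m.gcdA m' * (m : ℤ)) • x) := by
      rw [← add_smul]
      conv_lhs => rw [← one_zsmul x]
      congr 1
      push_cast at hb
      linarith
    rw [e]
    refine AddSubgroup.add_mem_sup ((hmem m _).mpr ?_) ((hmem m' _).mpr ?_)
    · rw [← natCast_zsmul, smul_smul, show (m : ℤ) * (m.gcdB m' * (m' : ℤ)) = m.gcdB m' * ((m * m' : ℕ) : ℤ) by
        push_cast; ring, ← smul_smul, natCast_zsmul, hV, zsmul_zero]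
    · rw [← natCast_zsmul, smul_smul, show (m' : ℤ) * (m.gcdA m' * (m : ℤ)) = m.gcdA m' * ((m * m' : ℕ) : ℤ) by
        push_cast; ring, ← smul_smul, natCast_zsmul, hV, zsmul_zero]
  obtain ⟨hcard, -⟩ := card_le_of_compl U W hU hW hinf hsup
  let aU := invAction U hU
  let aW := invAction W hW
  refine ⟨U, W, inferInstance, inferInstance, inferInstance, inferInstance, (@linHom R U _ _ aU).range,
    (@linHom R W _ _ aW).range, (@linHom R U _ _ aU).rangeRestrict, (@linHom R W _ _ aW).rangeRestrict,
    hcard, fun x => Subtype.ext x.2, fun x => Subtype.ext x.2, MonoidHom.rangeRestrict_surjective _,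
    MonoidHom.rangeRestrict_surjective _, @isCR_range R U _ _ aU (isCR_invAction hcr U hU),
    @isCR_range R W _ _ aW (isCR_invAction hcr W hW), ?_⟩
  intro a b h
  refine eq_of_smul_eq_smul fun v : V => ?_
  obtain ⟨y, hy, z, hz, rfl⟩ := AddSubgroup.mem_sup.mp (show v ∈ U ⊔ W by rw [hsup]; trivial)
  rw [smul_add, smul_add]
  congr 1
  · exact congrArg (fun t => ((((t.1 : (AddMonoid.End U)ˣ) : AddMonoid.End U) ⟨y, hy⟩ : U) : V)) h
  · exact congrArg (fun t => ((((t.2 : (AddMonoid.End W)ˣ) : AddMonoid.End W) ⟨z, hz⟩ : W) : V)) h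

theorem card_eq_pow_of_smul {U : Type u} [AddCommGroup U] [Finite U] {r : ℕ} [Fact r.Prime]
    (h : ∀ x : U, r • x = 0) : ∃ k, Nat.card U = r ^ k := by
  letI : Module (ZMod r) U := AddCommGroup.zmodModule (n := r) h
  haveI : Module.Finite (ZMod r) U := Module.Finite.of_finite
  exact ⟨Module.finrank (ZMod r) U, by
    rw [Module.natCard_eq_pow_finrank (K := ZMod r) (V := U), Nat.card_zmod]⟩

/-- Order bound from five triples, or triviality. -/
theorem five_or_trivial {U : Type u} [AddCommGroup U] [Finite U] (H : Subgroup (AddMonoid.End U)ˣ)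
    (hsol : Group.IsSolvable H) (hcr : IsCR H U) [Nontrivial U] : 5 * Nat.card H ≤ Nat.card U ^ 3 := by
  haveI : FaithfulSMul H U := ⟨fun {a b} e => Subtype.ext (Units.ext (AddMonoidHom.ext e))⟩
  haveI : Finite H := Finite.of_injective _ Subtype.val_injective
  haveI := hsol
  exact five_bound hcr

/-- Six. -/
theorem subK_thirtySix (hcr : IsCR R V) (hV : Nat.card V = 36) (h6 : ∀ x : V, 6 • x = 0) :
    SubK R 243 := by
  haveI := Fact.mk Nat.prime_two
  haveI := Fact.mk Nat.prime_three
  obtain ⟨U, W, _, _, _, _, H, J, f, g, hc, hU, hW, hf, hg, hHcr, hJcr, hfg⟩ :=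
    exists_coprime_split hcr (m := 2) (m' := 3) (by norm_num) h6
  obtain ⟨k, hk⟩ := card_eq_pow_of_smul hU
  obtain ⟨l, hl⟩ := card_eq_pow_of_smul hW
  rw [hV, hk, hl] at hc
  have hk2 : k = 2 ∧ l = 2 := by
    have h1 : k ≤ 5 := by
      by_contra h
      have := Nat.le_of_dvd (by norm_num) (Dvd.intro (3 ^ l) hc.symm)
      have := Nat.pow_le_pow_right (by norm_num : 0 < 2) (Nat.lt_of_not_le h)
      omega
    have h2 : l ≤ 3 := by
      by_contra h
      have := Nat.le_of_dvd (by norm_num) (Dvd.intro_left (2 ^ k) hc.symm)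
      have := Nat.pow_le_pow_right (by norm_num : 0 < 3) (Nat.lt_of_not_le h)
      omega
    interval_cases k <;> interval_cases l <;> norm_num at hc <;> exact ⟨rfl, rfl⟩
  obtain ⟨rfl, rfl⟩ := hk2
  haveI : FaithfulSMul H U := ⟨fun {a b} e => Subtype.ext (Units.ext (AddMonoidHom.ext e))⟩
  haveI : FaithfulSMul J W := ⟨fun {a b} e => Subtype.ext (Units.ext (AddMonoidHom.ext e))⟩
  haveI : Finite H := Finite.of_surjective _ hf
  haveI : Finite J := Finite.of_surjective _ hg
  haveI : Group.IsSolvable H := Group.isSolvable_of_surjective hf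
  haveI : Group.IsSolvable J := Group.isSolvable_of_surjective hg
  have h1 := subK_two 2 H U (by norm_num) (by norm_num) hHcr hU hk
  have h2 := subK_of_card_le (card_small 2 J W 3 (Or.inr rfl) (by simp [maxDim]) (by norm_num) hJcr hW hl)
  exact ((h1.prod h2).of_injective _ hfg).mono (by norm_num [orderBound])

/-- Ten. -/
theorem card_hundred (hcr : IsCR R V) (hV : Nat.card V = 100) (h10 : ∀ x : V, 10 • x = 0) :
    Nat.card R ≤ 19683 := by
  haveI := Fact.mk Nat.prime_two
  haveI := Fact.mk Nat.prime_five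
  obtain ⟨U, W, _, _, _, _, H, J, f, g, hc, hU, hW, hf, hg, hHcr, hJcr, hfg⟩ :=
    exists_coprime_split hcr (m := 2) (m' := 5) (by norm_num) h10
  obtain ⟨k, hk⟩ := card_eq_pow_of_smul hU
  obtain ⟨l, hl⟩ := card_eq_pow_of_smul hW
  rw [hV, hk, hl] at hc
  have hk2 : k = 2 ∧ l = 2 := by
    have h1 : k ≤ 6 := by
      by_contra h
      have := Nat.le_of_dvd (by norm_num) (Dvd.intro (5 ^ l) hc.symm)
      have := Nat.pow_le_pow_right (by norm_num : 0 < 2) (Nat.lt_of_not_le h)
      omega
    have h2 : l ≤ 2 := by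
      by_contra h
      have := Nat.le_of_dvd (by norm_num) (Dvd.intro_left (2 ^ k) hc.symm)
      have := Nat.pow_le_pow_right (by norm_num : 0 < 5) (Nat.lt_of_not_le h)
      omega
    interval_cases k <;> interval_cases l <;> norm_num at hc <;> exact ⟨rfl, rfl⟩
  obtain ⟨rfl, rfl⟩ := hk2
  haveI : FaithfulSMul H U := ⟨fun {a b} e => Subtype.ext (Units.ext (AddMonoidHom.ext e))⟩
  haveI : Finite H := Finite.of_surjective _ hf
  haveI : Finite J := Finite.of_surjective _ hg
  haveI : Group.IsSolvable H := Group.isSolvable_of_surjective hf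
  haveI : Nontrivial W := Finite.one_lt_card_iff_nontrivial.mp (by rw [hl]; norm_num)
  have h1 := card_small 2 H U 2 (Or.inl rfl) (by simp [maxDim]) (by norm_num) hHcr hU hk
  have h2 := five_or_trivial J (Group.isSolvable_of_surjective hg) hJcr
  refine (Nat.card_le_card_of_injective _ hfg).trans ?_
  rw [Nat.card_prod]
  rw [hl] at h2
  norm_num [orderBound] at h1 h2
  calc Nat.card H * Nat.card J ≤ 6 * 3125 := Nat.mul_le_mul h1 (by omega)
    _ ≤ _ := by norm_num

/-- Twelve. -/
theorem card_oneFortyFour (hcr : IsCR R V) (hV : Nat.card V = 144) (h6 : ∀ x : V, 6 • x = 0) :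
    Nat.card R ≤ 177147 := by
  haveI := Fact.mk Nat.prime_two
  haveI := Fact.mk Nat.prime_three
  obtain ⟨U, W, _, _, _, _, H, J, f, g, hc, hU, hW, hf, hg, hHcr, hJcr, hfg⟩ :=
    exists_coprime_split hcr (m := 2) (m' := 3) (by norm_num) h6
  obtain ⟨k, hk⟩ := card_eq_pow_of_smul hU
  obtain ⟨l, hl⟩ := card_eq_pow_of_smul hW
  rw [hV, hk, hl] at hc
  have hk2 : k = 4 ∧ l = 2 := by
    have h1 : k ≤ 7 := by
      by_contra h
      have := Nat.le_of_dvd (by norm_num) (Dvd.intro (3 ^ l) hc.symm)
      have := Nat.pow_le_pow_right (by norm_num : 0 < 2) (Nat.lt_of_not_le h)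
      omega
    have h2 : l ≤ 4 := by
      by_contra h
      have := Nat.le_of_dvd (by norm_num) (Dvd.intro_left (2 ^ k) hc.symm)
      have := Nat.pow_le_pow_right (by norm_num : 0 < 3) (Nat.lt_of_not_le h)
      omega
    interval_cases k <;> interval_cases l <;> norm_num at hc <;> exact ⟨rfl, rfl⟩
  obtain ⟨rfl, rfl⟩ := hk2
  haveI : FaithfulSMul H U := ⟨fun {a b} e => Subtype.ext (Units.ext (AddMonoidHom.ext e))⟩
  haveI : FaithfulSMul J W := ⟨fun {a b} e => Subtype.ext (Units.ext (AddMonoidHom.ext e))⟩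
  haveI : Finite H := Finite.of_surjective _ hf
  haveI : Finite J := Finite.of_surjective _ hg
  haveI : Group.IsSolvable H := Group.isSolvable_of_surjective hf
  haveI : Group.IsSolvable J := Group.isSolvable_of_surjective hg
  have h1 := card_small 4 H U 2 (Or.inl rfl) (by simp [maxDim]) (by norm_num) hHcr hU hk
  have h2 := card_small 2 J W 3 (Or.inr rfl) (by simp [maxDim]) (by norm_num) hJcr hW hl
  refine (Nat.card_le_card_of_injective _ hfg).trans ?_
  rw [Nat.card_prod]
  exact (Nat.mul_le_mul h1 h2).trans (by norm_num [orderBound])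

end Range

variable {A V K : Type u} [Group A] [Finite A] [AddCommGroup V] [Finite V] [Nontrivial V]
  [DistribMulAction A V] [FaithfulSMul A V] [Field K] [Finite K] [Module K V] {Z : Subgroup A}
  [Z.Normal] {D : SemiData A V K Z}

/-- Classes of subgroups of the group induced on the layer. -/
theorem subK_layer (L : LayerData D) (hsol : Group.IsSolvable A) {e : ℕ}
    (he : Nat.card L.W = e * e) : SubK L.S (3 ^ (e - 1)) := by
  classical
  haveI := L.solvable_range hsol
  letI := autAdd L.φ.range
  haveI : FaithfulSMul L.φ.range (Additive L.W) := ⟨fun {g h} hgh => Subtype.ext (MulEquiv.ext fun w =>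
    Additive.ofMul.injective (hgh (Additive.ofMul w)))⟩
  haveI : Nontrivial L.W := Finite.one_lt_card_iff_nontrivial.mp L.one_lt_card
  let ι : L.S →* L.φ.range := Subgroup.inclusion (Subgroup.map_le_range L.φ _)
  have hι : Function.Injective ι := Subgroup.inclusion_injective _
  have hW1 := L.one_lt_card
  rw [he] at hW1
  have he2 : 2 ≤ e := by
    by_contra h
    interval_cases e <;> omega
  have hcard : Nat.card (Additive L.W) = e * e := by rw [Nat.card_congr Additive.toMul, he]
  -- squarefree exponent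
  have hexp : ∀ {q : ℕ}, q.Prime → ∀ x : L.W, x ^ (q * q) = 1 → x ^ q = 1 := fun {q} hq x hx =>
    pow_prime_eq_one_of_cr L.cr hq hx
  have hdown : ∀ (q k : ℕ), q.Prime → 1 ≤ k → ∀ x : L.W, x ^ (q ^ k) = 1 → x ^ q = 1 := by
    intro q k hq hk
    induction k, hk using Nat.le_induction with
    | base => intro x hx; rwa [pow_one] at hx
    | succ k hk ih =>
      intro x hx
      refine hexp hq x ?_
      rw [pow_mul]
      exact ih (x ^ q) (by rw [← pow_mul, ← pow_succ']; exact hx)
  have hprim : ∀ (q k : ℕ), q.Prime → Nat.card L.W = q ^ k → 1 ≤ k → ∀ x : L.W, x ^ q = 1 :=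
    fun q k hq h hk x => hdown q k hq hk x (h ▸ pow_card_eq_one')
  have hadd : ∀ {q : ℕ}, (∀ x : L.W, x ^ q = 1) → ∀ x : Additive L.W, q • x = 0 := fun {q} h x =>
    Additive.toMul.injective (h x.toMul)
  by_cases h14 : 14 ≤ e
  · refine subK_of_card_le ?_
    have h5 := L.five hsol
    rw [he] at h5
    have := six_pow_le h14
    omega
  interval_cases e
  · -- two
    exact ((subK_two 2 L.φ.range (Additive L.W) (by norm_num) (by norm_num) L.cr
      (hadd (hprim 2 2 Nat.prime_two (by rw [he]; norm_num) (by norm_num))) hcard).of_injective ι hι)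
  · haveI := Fact.mk Nat.prime_three
    obtain ⟨f, hf⟩ := L.exists_SL (r := 3) he
    exact subK_SL_three.of_injective f hf
  · -- four
    exact ((subK_two 4 L.φ.range (Additive L.W) le_rfl (by norm_num) L.cr
      (hadd (hprim 2 4 Nat.prime_two (by rw [he]; norm_num) (by norm_num))) hcard).of_injective ι hι)
  · haveI := Fact.mk Nat.prime_five
    obtain ⟨f, hf⟩ := L.exists_SL (r := 5) he
    exact subK_SL_five.of_injective f hf
  · -- six
    have h6 : ∀ x : L.W, x ^ 6 = 1 := fun x => by
      have h36 : x ^ 36 = 1 := by have h := pow_card_eq_one' (x := x); rwa [he] at h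
      have a : (x ^ 9) ^ 2 = 1 := hexp Nat.prime_two (x ^ 9) (by rw [← pow_mul]; exact h36)
      have b : (x ^ 2) ^ 9 = 1 := by rw [← pow_mul]; rwa [← pow_mul] at a
      have c : ((x ^ 2) ^ 3) = 1 := hexp Nat.prime_three (x ^ 2) b
      rwa [← pow_mul] at c
    exact (subK_thirtySix L.cr hcard (hadd h6)).of_injective ι hι
  · haveI := Fact.mk (show Nat.Prime 7 by norm_num)
    obtain ⟨f, hf⟩ := L.exists_SL (r := 7) he
    exact ((subK_of_card_le (le_of_eq card_SL_seven)).of_injective f hf).mono (by norm_num)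
  · -- eight
    refine subK_of_card_le ((Nat.card_le_card_of_injective ι hι).trans ((card_small 6 L.φ.range
      (Additive L.W) 2 (Or.inl rfl) (by simp [maxDim]) (by norm_num) L.cr
      (hadd (hprim 2 6 Nat.prime_two (by rw [he]; norm_num) (by norm_num))) hcard).trans (by norm_num [orderBound])))
  · -- nine
    refine subK_of_card_le ((Nat.card_le_card_of_injective ι hι).trans ((card_small 4 L.φ.range
      (Additive L.W) 3 (Or.inr rfl) (by simp [maxDim]) (by norm_num) L.cr
      (hadd (hprim 3 4 Nat.prime_three (by rw [he]; norm_num) (by norm_num))) hcard).trans (by norm_num [orderBound])))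
  · -- ten
    have h10 : ∀ x : L.W, x ^ 10 = 1 := fun x => by
      have h : x ^ 100 = 1 := by have h := pow_card_eq_one' (x := x); rwa [he] at h
      have a : (x ^ 25) ^ 2 = 1 := hexp Nat.prime_two (x ^ 25) (by rw [← pow_mul]; exact h)
      have b : (x ^ 2) ^ 25 = 1 := by rw [← pow_mul]; rwa [← pow_mul] at a
      have c : ((x ^ 2) ^ 5) = 1 := hexp Nat.prime_five (x ^ 2) b
      rwa [← pow_mul] at c
    exact subK_of_card_le ((Nat.card_le_card_of_injective ι hι).trans
      ((card_hundred L.cr hcard (hadd h10)).trans (by norm_num)))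
  · exact subK_prime_dim L he (by norm_num) (by norm_num)
  · -- twelve
    have h6 : ∀ x : L.W, x ^ 6 = 1 := fun x => by
      have h : x ^ 144 = 1 := by have h := pow_card_eq_one' (x := x); rwa [he] at h
      have a : (x ^ 9) ^ 2 = 1 := hdown 2 4 Nat.prime_two (by norm_num) (x ^ 9) (by rw [← pow_mul]; exact h)
      have b : (x ^ 2) ^ 9 = 1 := by rw [← pow_mul]; rwa [← pow_mul] at a
      have c : ((x ^ 2) ^ 3) = 1 := hexp Nat.prime_three (x ^ 2) b
      rwa [← pow_mul] at c
    exact subK_of_card_le ((Nat.card_le_card_of_injective ι hι).trans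
      ((card_oneFortyFour L.cr hcard (hadd h6)).trans (by norm_num)))
  · exact subK_prime_dim L he (by norm_num) (by norm_num)
where
  subK_prime_dim {A V K : Type u} [Group A] [Finite A] [AddCommGroup V] [Finite V]
      [DistribMulAction A V] [Field K] [Module K V] {Z : Subgroup A} {D : SemiData A V K Z}
      (L : LayerData D) {e : ℕ} (he : Nat.card L.W = e * e) (hp : e.Prime)
      (hb : (e * e - 1) * (e * e - e) ≤ 3 ^ (e - 1)) : SubK L.S (3 ^ (e - 1)) := by
    haveI := Fact.mk hp
    obtain ⟨k, hk, hA⟩ := card_mulAut_elem (M := L.W) (r := e) (fun a b => mul_comm a b) fun a =>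
      pow_prime_eq_one_of_cr L.cr hp (he ▸ pow_card_eq_one')
    have : k = 2 := Nat.pow_right_injective hp.two_le (show e ^ k = e ^ 2 by rw [← hk, he, pow_two])
    subst this
    refine subK_of_card_le ((Subgroup.card_le_card_group _).trans ?_)
    rw [hA, Fin.prod_univ_two]
    simpa [pow_two] using hb

end Cfsg.Agent.ClassLinear
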