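import Cfsg.Agent.Lib.Grp.ClassLinear.SemiClasses
import Cfsg.Agent.Lib.Grp.ClassLinear.FieldClasses
import Cfsg.Agent.S4958

/-!
# Classes of a module extended by a solvable linear group

A solvable linear group on `p ^ a` points without nontrivial normal `p`-subgroup gives a semidirect
product with at most `3 ^ (a - 1) * p ^ a` classes.
-/

set_option autoImplicit false
set_option linter.style.haveILetI false

universe u

namespace Cfsg.Agent.ClassLinear

open SqClass BaseTwo
open scoped commutatorElement

/-- Componentwise linear maps. -/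
def piAct (B : Type u) [AddCommGroup B] (n : ℕ) :
    (Fin n → (AddMonoid.End B)ˣ) →* (AddMonoid.End (Fin n → B))ˣ :=
  MonoidHom.toHomUnits
    { toFun := fun φ => AddMonoidHom.mk' (fun v i => (φ i : AddMonoid.End B) (v i))
        fun v w => funext fun i => map_add (φ i : AddMonoid.End B) (v i) (w i)
      map_one' := rfl
      map_mul' := fun _ _ => rfl }

/-- Subdirect products on a power of a module. -/
theorem classes_sd_pi {p c : ℕ} [Fact p.Prime] {B : Type u} [AddCommGroup B] [Finite B]
    (hc : ∀ R : Subgroup (AddMonoid.End B)ˣ, Group.IsSolvable R → NoP p R →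
      Nat.card (ConjClasses (SD R.subtype)) ≤ c) :
    ∀ (j : ℕ) (L : Type u) [Group L] [Finite L] (_ : Group.IsSolvable L)
      (ψ : L →* (Fin j → (AddMonoid.End B)ˣ)), Function.Injective ψ →
      (∀ i, NoP p ((Pi.evalMonoidHom (fun _ : Fin j => (AddMonoid.End B)ˣ) i).comp ψ).range) →
      Nat.card (ConjClasses (SD ((piAct B j).comp ψ))) ≤ c ^ j := by
  intro j
  induction j with
  | zero =>
    intro L _ _ _ ψ hψ _
    haveI : Subsingleton L := hψ.subsingleton
    rw [pow_zero]
    refine card_classes_le.trans ?_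
    rw [SemidirectProduct.card, Nat.card_congr Multiplicative.toAdd, Nat.card_unique, Nat.card_unique,
      one_mul]
  | succ j ih =>
    intro L _ _ hsol ψ hψ hno
    haveI := hsol
    let g : L →* (AddMonoid.End B)ˣ :=
      (Pi.evalMonoidHom (fun _ : Fin (j + 1) => (AddMonoid.End B)ˣ) 0).comp ψ
    let ψ' : g.ker →* (Fin j → (AddMonoid.End B)ˣ) :=
      MonoidHom.mk' (fun l i => ψ l i.succ) fun a b => funext fun i => by
        show ψ ((a : L) * b) i.succ = _
        rw [map_mul]
        rfl
    let π : (Fin (j + 1) → B) →+ B := AddMonoidHom.mk' (fun v => v 0) fun _ _ => rfl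
    let ι : (Fin j → B) →+ (Fin (j + 1) → B) :=
      AddMonoidHom.mk' (fun y => Fin.cons 0 y) fun a b => funext fun i => by
        refine Fin.cases ?_ (fun k => ?_) i <;> simp
    refine (classes_sd_seq _ g ((piAct B j).comp ψ') ι π ?_ (fun b => ⟨fun _ => b, rfl⟩) ?_
      (fun l x => rfl) ?_).trans ?_
    · intro a b e
      exact funext fun i => by simpa [ι] using congrFun e i.succ
    · intro x
      constructor
      · intro hx
        refine ⟨fun i => x i.succ, funext fun i => ?_⟩
        refine Fin.cases ?_ (fun k => ?_) i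
        · simpa [ι, π] using hx.symm
        · simp [ι]
      · rintro ⟨y, rfl⟩
        simp [ι, π]
    · intro l y
      refine funext fun i => ?_
      show (ψ (l : L) i : AddMonoid.End B) ((Fin.cons 0 y : Fin (j + 1) → B) i) = _
      refine Fin.cases ?_ (fun k => ?_) i
      · simp [ι]
      · rw [Fin.cons_succ]
        rfl
    · rw [pow_succ]
      refine Nat.mul_le_mul ?_ (hc g.range (Group.isSolvable_of_surjective g.rangeRestrict_surjective) (hno 0))
      refine ih g.ker inferInstance ψ' (fun a b e => Subtype.ext (hψ (funext fun i => ?_))) fun i => ?_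
      · refine Fin.cases ?_ (fun k => congrFun e k) i
        exact a.2.trans b.2.symm
      · let φ : L →* (AddMonoid.End B)ˣ :=
          (Pi.evalMonoidHom (fun _ : Fin (j + 1) => (AddMonoid.End B)ˣ) i.succ).comp ψ
        haveI : Finite φ.range := Finite.of_surjective _ φ.rangeRestrict_surjective
        haveI : (g.ker.map φ.rangeRestrict).Normal :=
          Subgroup.Normal.map inferInstance _ φ.rangeRestrict_surjective
        refine ((hno i.succ).normal (g.ker.map φ.rangeRestrict)).congr
          (((g.ker.map φ.rangeRestrict).equivMapOfInjective φ.range.subtype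
            Subtype.val_injective).trans (MulEquiv.subgroupCongr ?_))
        rw [Subgroup.map_map, show φ.range.subtype.comp φ.rangeRestrict = φ from rfl]
        ext x
        constructor
        · rintro ⟨l, hl, rfl⟩
          exact ⟨⟨l, hl⟩, rfl⟩
        · rintro ⟨l, rfl⟩
          exact ⟨l, l.2, rfl⟩

/-- Irreducible groups have no normal `p`-subgroup. -/
theorem noP_of_isIrr {A V : Type u} [Group A] [Finite A] [AddCommGroup V] [Finite V]
    [DistribMulAction A V] [FaithfulSMul A V] (hirr : IsIrr A V) {p a : ℕ} [Fact p.Prime]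
    (hV : Nat.card V = p ^ a) : NoP p A := by
  intro N hN hp
  haveI := hN
  rw [eq_bot_iff]
  intro g hg
  refine Subgroup.mem_bot.mpr (eq_of_smul_eq_smul fun v : V => ?_)
  rw [one_smul]
  exact trivial_of_pGroup hV (isCR_of_isIrr hirr) N hp g hg v

/-- A coprime extension with abelian stabiliser. -/
theorem classes_sd_coprime {L V : Type u} [Group L] [Finite L] [AddCommGroup V] [Finite V]
    (f : L →* (AddMonoid.End V)ˣ) (hf : Function.Injective f) {p : ℕ} [Fact p.Prime]
    (hp : ∀ x : V, p • x = 0) (hcop : ¬ p ∣ Nat.card L) (v : V)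
    (hv : ∀ a b : L, (f a : AddMonoid.End V) v = v → (f b : AddMonoid.End V) v = v → a * b = b * a) :
    Nat.card (ConjClasses (SD f)) ≤ Nat.card V := by
  set X₀ : Subgroup (SD f) := SemidirectProduct.inl.range with hX₀
  have hker : X₀ = (SemidirectProduct.rightHom : SD f →* L).ker :=
    SemidirectProduct.range_inl_eq_ker_rightHom
  haveI : X₀.Normal := by rw [hker]; infer_instance
  have hidx : X₀.index = Nat.card L := by
    rw [hker, Subgroup.index_ker, MonoidHom.range_eq_top.mpr SemidirectProduct.rightHom_surjective,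
      Subgroup.card_top]
  have hconj : ∀ (a : L) (x : V), (SemidirectProduct.inr a : SD f) *
      SemidirectProduct.inl (Multiplicative.ofAdd x) * (SemidirectProduct.inr a)⁻¹ =
      SemidirectProduct.inl (Multiplicative.ofAdd ((f a : AddMonoid.End V) x)) := fun a x => by
    rw [← map_inv, ← SemidirectProduct.inl_aut]
    rfl
  have hfix : ∀ (a : L) (x : V),
      (SemidirectProduct.inr a : SD f) * SemidirectProduct.inl (Multiplicative.ofAdd x) =
        SemidirectProduct.inl (Multiplicative.ofAdd x) * SemidirectProduct.inr a →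
      (f a : AddMonoid.End V) x = x := fun a x h => by
    have h2 := hconj a x
    rw [h, mul_inv_cancel_right] at h2
    exact (Multiplicative.ofAdd.injective (SemidirectProduct.inl_injective h2)).symm
  have hab : ∀ x y : SD f, x ∈ X₀ → y ∈ X₀ → x * y = y * x := by
    rintro x y ⟨s, rfl⟩ ⟨t, rfl⟩
    rw [← map_mul, ← map_mul, mul_comm]
  have hself : Subgroup.centralizer (X₀ : Set (SD f)) = X₀ := by
    refine le_antisymm (fun z hz => ?_) fun x hx => Subgroup.mem_centralizer_iff.mpr fun y hy => hab y x hy hx
    have h1 : z.right = 1 := hf (by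
      rw [map_one]
      refine Units.ext (AddMonoidHom.ext fun x => hfix _ x ?_)
      have hx := Subgroup.mem_centralizer_iff.mp hz _ ⟨Multiplicative.ofAdd x, rfl⟩
      rw [← SemidirectProduct.inl_left_mul_inr_right z] at hx
      rw [← mul_assoc, hab _ _ ⟨_, rfl⟩ ⟨_, rfl⟩, mul_assoc, mul_assoc] at hx
      exact (mul_left_cancel hx).symm)
    rw [hker]
    exact h1
  have hcompl : Subgroup.IsComplement' X₀ (SemidirectProduct.inr : L →* SD f).range := by
    refine Subgroup.isComplement'_of_card_mul_and_disjoint ?_ ?_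
    · rw [Nat.card_congr (MonoidHom.ofInjective (f := (SemidirectProduct.inl : _ →* SD f))
        SemidirectProduct.inl_injective).toEquiv.symm, Nat.card_congr (MonoidHom.ofInjective
        (f := (SemidirectProduct.inr : L →* SD f)) SemidirectProduct.inr_injective).toEquiv.symm,
        SemidirectProduct.card]
    · rw [Subgroup.disjoint_def]
      rintro _ ⟨s, rfl⟩ ⟨t, ht⟩
      have : t = 1 := by simpa using congrArg SemidirectProduct.right ht
      rw [← ht, this, map_one]
  refine le_of_le_of_eq (Cfsg.Agent.S4958.result p X₀ ?_ (by rwa [hidx]) hself _ hcompl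
    (SemidirectProduct.inl (Multiplicative.ofAdd v)) ⟨_, rfl⟩ ?_)
    ((Nat.card_congr (MonoidHom.ofInjective (f := (SemidirectProduct.inl : _ →* SD f))
      SemidirectProduct.inl_injective).toEquiv.symm).trans (Nat.card_congr Multiplicative.toAdd))
  · rintro _ ⟨x, rfl⟩
    rw [← map_pow, show x ^ p = 1 from Multiplicative.toAdd.injective (hp x.toAdd), map_one]
  · rintro _ ⟨⟨a, rfl⟩, ha⟩ _ ⟨⟨b, rfl⟩, hb⟩
    rw [← map_mul, ← map_mul, hv a b (hfix a v (Subgroup.mem_centralizer_singleton_iff.mp ha))
      (hfix b v (Subgroup.mem_centralizer_singleton_iff.mp hb))]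

/-- The primitive case. -/
theorem prim_sd {V : Type u} [AddCommGroup V] [Finite V] [Nontrivial V]
    {A : Subgroup (AddMonoid.End V)ˣ} (hsol : Group.IsSolvable A) {p a : ℕ} [Fact p.Prime]
    (hp : ∀ x : V, p • x = 0) (hV : Nat.card V = p ^ a) (P : Prim A V p a) :
    Nat.card (ConjClasses (SD A.subtype)) ≤ 3 ^ (a - 1) * p ^ a := by
  haveI : FaithfulSMul A V := ⟨fun {a b} h => Subtype.ext (Units.ext (AddMonoidHom.ext h))⟩
  haveI : Finite A := Finite.of_injective _ Subtype.val_injective
  letI := P.fld; haveI := P.fin; letI := P.mod; haveI := P.normal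
  haveI : FiniteDimensional P.K V := Module.Finite.of_finite
  have hd : 1 ≤ P.d := P.finrank_eq ▸ Module.finrank_pos
  have hm : 1 ≤ P.m := by
    rcases Nat.eq_zero_or_pos P.m with h | h
    · exact absurd (P.card_K.trans (by rw [h, pow_zero])) (Finite.one_lt_card (α := P.K)).ne'
    · exact h
  set f := (Subgroup.centralizer (P.Z : Set A)).index with hf
  have hfm : f ≤ P.m := P.index_le
  have hf1 : 1 ≤ f := Nat.one_le_iff_ne_zero.mpr Subgroup.index_ne_zero_of_finite
  obtain ⟨v, hv⟩ := exists_ne (0 : V)
  have hunit : ∀ s : ℕ, s ∣ Nat.card P.Kˣ → ¬ p ∣ s := fun s hs hps => by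
    have h1 : p ∣ p ^ P.m - 1 := by rw [← P.card_K, ← Nat.card_units]; exact hps.trans hs
    have h2 := Nat.dvd_sub (dvd_pow_self p (Nat.one_le_iff_ne_zero.mp hm)) h1
    have h3 : 1 ≤ p ^ P.m := Nat.one_le_pow _ _ (Fact.out : p.Prime).pos
    rw [show p ^ P.m - (p ^ P.m - 1) = 1 by omega] at h2
    exact (Fact.out : p.Prime).ne_one (Nat.dvd_one.mp h2)
  have hZp : ¬ p ∣ Nat.card P.Z := hunit _ (Subgroup.card_dvd_of_injective _ P.D.ι_injective)
  have hfree : ∀ z : P.Z, (z : A) • v = v → z = 1 := fun z h => by
    refine P.D.ι_injective (Units.ext ?_)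
    rw [map_one]
    refine smul_left_injective P.K hv ?_
    show ((P.D.ι z : P.Kˣ) : P.K) • v = (1 : P.K) • v
    rw [← P.D.scalar, one_smul]
    exact h
  rw [mul_comm]
  have key : ∀ (M : Subgroup A) [M.Normal], ¬ p ∣ Nat.card M →
      (∀ x ∈ M, ∀ y ∈ M, ⁅x, y⁆ ∈ P.Z) → SubK (A ⧸ M) (3 ^ (a - 1)) →
      Nat.card (ConjClasses (SD A.subtype)) ≤ p ^ a * 3 ^ (a - 1) := by
    intro M _ hM hcomm hK
    refine (classes_sd_normal A.subtype M (c := 3 ^ (a - 1)) ?_).trans (Nat.mul_le_mul_right _ ?_)
    · rw [← card_conjClasses_congr Subgroup.topEquiv]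
      exact hK ⊤
    · refine (classes_sd_coprime (A.subtype.comp M.subtype) (fun x y e => Subtype.ext (Subtype.ext e))
        hp hM v fun x y hx hy => ?_).trans (le_of_eq hV)
      refine commutatorElement_eq_one_iff_mul_comm.mp (Subtype.ext ?_)
      have hxy : (⁅(x : A), (y : A)⁆) • v = v := by
        have hx' : ((x : A))⁻¹ • v = v := inv_smul_eq_iff.mpr (Eq.symm hx)
        have hy' : ((y : A))⁻¹ • v = v := inv_smul_eq_iff.mpr (Eq.symm hy)
        rw [commutatorElement_def, mul_smul, mul_smul, mul_smul, hy', hx']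
        exact (congrArg ((x : A) • ·) hy).trans hx
      show ((⁅x, y⁆ : M) : A) = 1
      exact congrArg (fun t : P.Z => (t : A)) (hfree ⟨_, hcomm x x.2 y y.2⟩ hxy)
  rcases P.layer with hZC | ⟨⟨L⟩⟩
  · refine key P.Z hZp (fun x hx y hy => (⁅(⟨x, hx⟩ : P.Z), ⟨y, hy⟩⁆ : P.Z).2) (subK_of_card_le ?_)
    rw [← Subgroup.index_eq_card, hZC, ← hf]
    refine (le_three_pow_pred f).trans (Nat.pow_le_pow_right (by norm_num) (Nat.sub_le_sub_right ?_ 1))
    exact hfm.trans ((Nat.le_mul_of_pos_right P.m hd).trans P.dim.ge)
  · haveI := L.normal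
    obtain ⟨e, he⟩ := exists_card_eq_sq L.b L.alt L.nd
    have hed : e ≤ P.d := Nat.mul_self_le_mul_self_iff.mp (by rw [← he, ← P.finrank_eq]; exact L.card_W_le)
    have hW1 := L.one_lt_card
    have he2 : 2 ≤ e := by
      by_contra h
      interval_cases e <;> omega
    refine key L.M ?_ L.comm_mem ((subK_mod_layer L hsol he).mono ?_)
    · rw [L.card_M, (Fact.out : p.Prime).dvd_mul]
      rintro (h | h)
      · exact hZp h
      · exact hunit p (prime_dvd_card_values L.b L.nd Fact.out h) dvd_rfl
    · refine (mul_three_pow_le hf1 (by omega) hed).trans (Nat.pow_le_pow_right (by norm_num) ?_)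
      exact Nat.sub_le_sub_right ((Nat.mul_le_mul_right P.d hfm).trans P.dim.ge) 1

/-- The bound. -/
theorem classes_sd_bound : ∀ (a : ℕ) (p : ℕ) [Fact p.Prime] (V : Type u) [AddCommGroup V] [Finite V],
    1 ≤ a → (∀ x : V, p • x = 0) → Nat.card V = p ^ a → ∀ A : Subgroup (AddMonoid.End V)ˣ,
    Group.IsSolvable A → NoP p A → Nat.card (ConjClasses (SD A.subtype)) ≤ 3 ^ (a - 1) * p ^ a := by
  intro a
  induction a using Nat.strong_induction_on with
  | _ a IH =>
    intro p _ V _ _ ha hpV hV A hsol hno
    have hp2 := (Fact.out : p.Prime).two_le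
    haveI : Nontrivial V := Finite.one_lt_card_iff_nontrivial.mp (by
      rw [hV]; exact Nat.one_lt_pow (by omega) (by omega))
    haveI : Finite (AddMonoid.End V) :=
      Finite.of_injective (fun f : AddMonoid.End V => (f : V → V)) DFunLike.coe_injective
    haveI : FaithfulSMul A V := ⟨fun {a b} h => Subtype.ext (Units.ext (AddMonoidHom.ext h))⟩
    haveI := hsol
    by_cases hirr : IsIrr A V
    · rcases blocks_or_prim A hsol hirr hV with ⟨⟨D⟩⟩ | ⟨⟨P⟩⟩
      swap
      · exact prim_sd hsol hpV hV P
      obtain ⟨B, _, _, _, H, n, T, ⟨hHirr, hHsol, hn, hVB, hT, -, -, -⟩, -, K, hKn, hKT, ψ, hψ, hnorm, e, he⟩ :=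
        exists_block_group' hirr hsol D
      haveI := hKn
      obtain ⟨b, -, hB⟩ := (Nat.dvd_prime_pow (Fact.out : p.Prime)).mp (show Nat.card B ∣ p ^ a from
        hV ▸ hVB ▸ dvd_pow_self _ (by omega))
      have hab : a = b * n := by
        rw [hV, hB, ← pow_mul] at hVB
        exact Nat.pow_right_injective hp2 hVB
      have hb1 : 1 ≤ b := by
        by_contra h0
        rw [show b = 0 by omega, pow_zero] at hB
        exact (Finite.one_lt_card (α := B)).ne' hB
      have hblt : b < a := by
        rw [hab]
        calc b = b * 1 := (mul_one b).symm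
          _ < b * n := Nat.mul_lt_mul_of_pos_left (by omega) (by omega)
      have hpB : ∀ x : B, p • x = 0 := fun x => by
        have h := hpV (e.symm fun _ => x)
        have h2 := congrArg e h
        rw [map_nsmul, e.apply_symm_apply, map_zero] at h2
        exact congrFun h2 ⟨0, by omega⟩
      haveI : FaithfulSMul H B := ⟨fun {a b} e => Subtype.ext (Units.ext (AddMonoidHom.ext e))⟩
      haveI : Finite H := Finite.of_injective _ Subtype.val_injective
      let ψ₂ : K →* (Fin n → (AddMonoid.End B)ˣ) :=
        MonoidHom.mk' (fun k i => (ψ k i : (AddMonoid.End B)ˣ)) fun x y => funext fun i => by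
          rw [map_mul]; rfl
      have hψ₂ : Function.Injective ψ₂ := fun x y h => hψ (funext fun i => Subtype.ext (congrFun h i))
      have hcomp : ∀ i, NoP p ((Pi.evalMonoidHom (fun _ : Fin n => (AddMonoid.End B)ˣ) i).comp ψ₂).range := by
        intro i
        let q : K →* H := (Pi.evalMonoidHom (fun _ : Fin n => (H : Type u)) i).comp ψ
        haveI : q.range.Normal := hnorm i
        refine ((noP_of_isIrr hHirr hB).normal q.range).congr
          ((q.range.equivMapOfInjective H.subtype Subtype.val_injective).trans (MulEquiv.subgroupCongr ?_))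
        rw [← MonoidHom.range_comp]
        rfl
      refine (classes_sd_index A.subtype K hKT).trans ?_
      rw [classes_sd_congr _ ((piAct B n).comp ψ₂) (MulEquiv.refl K) e fun k x => funext (he k x)]
      refine (Nat.mul_le_mul (root_le_three_pow hT)
        (classes_sd_pi (fun R hR hnR => IH b hblt p B hb1 hpB hB R hR hnR) n K inferInstance ψ₂ hψ₂
          hcomp)).trans ?_
      rw [mul_pow, ← pow_mul, ← pow_mul, ← hab, ← mul_assoc, ← pow_add]
      refine Nat.mul_le_mul_right _ (Nat.pow_le_pow_right (by norm_num) ?_)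
      rw [Nat.sub_mul, one_mul, ← hab]
      have : n ≤ a := hab ▸ Nat.le_mul_of_pos_left n hb1
      omega
    · obtain ⟨U₀, hU₀, hU0, hU1⟩ : ∃ U : AddSubgroup V, IsInv A U ∧ U ≠ ⊥ ∧ U ≠ ⊤ := by
        simpa [IsIrr, not_or] using hirr
      obtain ⟨U, hle, ⟨hU, hUtop⟩, hmax⟩ :=
        ({U : AddSubgroup V | IsInv A U ∧ U ≠ ⊤}).toFinite.exists_le_maximal ⟨hU₀, hU1⟩
      have hUbot : U ≠ ⊥ := fun h => hU0 (le_bot_iff.mp (h ▸ hle))
      let g : A →* (AddMonoid.End (V ⧸ U))ˣ := MonoidHom.toHomUnits
        { toFun := fun a => QuotientAddGroup.map U U (DistribSMul.toAddMonoidHom V a)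
            fun x hx => hU a x hx
          map_one' := AddMonoidHom.ext fun x => by
            obtain ⟨y, rfl⟩ := QuotientAddGroup.mk_surjective x
            exact congrArg _ (one_smul A y)
          map_mul' := fun a b => AddMonoidHom.ext fun x => by
            obtain ⟨y, rfl⟩ := QuotientAddGroup.mk_surjective x
            exact congrArg _ (mul_smul a b y) }
      let h : g.ker →* (AddMonoid.End U)ˣ := MonoidHom.toHomUnits
        { toFun := fun a => AddMonoidHom.mk' (fun x : U => (⟨(a : A) • (x : V), hU _ _ x.2⟩ : U))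
            fun x y => Subtype.ext (smul_add _ _ _)
          map_one' := AddMonoidHom.ext fun x => Subtype.ext (one_smul A (x : V))
          map_mul' := fun a b => AddMonoidHom.ext fun x => Subtype.ext (mul_smul (a : A) (b : A) (x : V)) }
      refine (classes_sd_seq A.subtype g h U.subtype (QuotientAddGroup.mk' U) Subtype.val_injective
        (QuotientAddGroup.mk'_surjective U) (fun x => ?_) (fun _ _ => rfl) fun _ _ => rfl).trans ?_
      · rw [QuotientAddGroup.mk'_apply, QuotientAddGroup.eq_zero_iff]
        exact ⟨fun hx => ⟨⟨x, hx⟩, rfl⟩, fun ⟨y, hy⟩ => hy ▸ y.2⟩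
      obtain ⟨x, hxle, hx⟩ := (Nat.dvd_prime_pow (Fact.out : p.Prime)).mp
        (show Nat.card U ∣ p ^ a from hV ▸ U.card_addSubgroup_dvd_card)
      obtain ⟨y, hyle, hy⟩ := (Nat.dvd_prime_pow (Fact.out : p.Prime)).mp
        (show Nat.card (V ⧸ U) ∣ p ^ a from hV ▸ AddSubgroup.card_quotient_dvd_card U)
      have hxy : a = x + y := by
        have h1 := AddSubgroup.card_eq_card_quotient_mul_card_addSubgroup U
        rw [hV, hx, hy, ← pow_add, add_comm] at h1
        exact Nat.pow_right_injective hp2 h1
      have hx1 : 1 ≤ x := by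
        by_contra h0
        rw [show x = 0 by omega, pow_zero] at hx
        exact hUbot (AddSubgroup.eq_bot_of_card_eq U hx)
      have hy1 : 1 ≤ y := by
        by_contra h0
        rw [show y = 0 by omega] at hxy
        exact hUtop (AddSubgroup.eq_top_of_card_eq U (by rw [hx, hV, hxy, add_zero]))
      have hpQ : ∀ q : V ⧸ U, p • q = 0 := fun q => by
        obtain ⟨z, rfl⟩ := QuotientAddGroup.mk_surjective q
        rw [← QuotientAddGroup.mk_nsmul, hpV, QuotientAddGroup.mk_zero]
      haveI : Finite g.range := Finite.of_surjective _ g.rangeRestrict_surjective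
      haveI : FaithfulSMul g.range (V ⧸ U) := ⟨fun {a b} e => Subtype.ext (Units.ext (AddMonoidHom.ext e))⟩
      have hgirr : IsIrr g.range (V ⧸ U) := by
        intro X hX
        by_cases hXtop : X = ⊤
        · exact Or.inr hXtop
        left
        have hinv : IsInv A (X.comap (QuotientAddGroup.mk' U)) := fun c z hz =>
          hX ⟨g c, c, rfl⟩ _ hz
        have hne : X.comap (QuotientAddGroup.mk' U) ≠ ⊤ := fun e => hXtop (by
          rw [← AddSubgroup.map_comap_eq_self_of_surjective (QuotientAddGroup.mk'_surjective U) X, e,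
            AddSubgroup.map_top_of_surjective _ (QuotientAddGroup.mk'_surjective U)])
        have hsub := hmax ⟨hinv, hne⟩ fun z hz => by
          show (z : V ⧸ U) ∈ X
          rw [(QuotientAddGroup.eq_zero_iff z).mpr hz]
          exact X.zero_mem
        rw [eq_bot_iff]
        intro q hq
        obtain ⟨z, rfl⟩ := QuotientAddGroup.mk_surjective q
        exact (QuotientAddGroup.eq_zero_iff z).mpr (hsub hq)
      have hkerno : NoP p g.ker := hno.normal g.ker
      have hh : Function.Injective h := by
        rw [← MonoidHom.ker_eq_bot_iff]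
        refine hkerno _ inferInstance fun s => ⟨1, Subtype.ext (Subtype.ext ?_)⟩
        rw [pow_one]
        obtain ⟨⟨s, hs⟩, hs'⟩ := s
        refine eq_of_smul_eq_smul fun z : V => ?_
        show (s ^ p : A) • z = (1 : A) • z
        rw [one_smul]
        have hd : s • z - z ∈ U := by
          refine (QuotientAddGroup.eq_iff_sub_mem).mp ?_
          exact congrArg (fun t : (AddMonoid.End (V ⧸ U))ˣ =>
            (t : AddMonoid.End (V ⧸ U)) (z : V ⧸ U)) hs
        have hfix : ∀ u ∈ U, s • u = u := fun u hu =>
          congrArg (fun t : (AddMonoid.End U)ˣ => (((t : AddMonoid.End U) ⟨u, hu⟩ : U) : V)) hs'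
        have hk : ∀ k : ℕ, s ^ k • z = z + k • (s • z - z) := by
          intro k
          induction k with
          | zero => simp
          | succ k ihk =>
            rw [pow_succ', mul_smul, ihk, smul_add, smul_comm s k, hfix _ hd, succ_nsmul]
            abel
        rw [hk p, hpV, add_zero]
      rw [classes_sd_range h hh, hxy]
      haveI : Finite h.range := Finite.of_surjective _ h.rangeRestrict_surjective
      refine (Nat.mul_le_mul
        (IH x (by omega) p U hx1 (fun u => Subtype.ext (hpV u)) hx h.range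
          (Group.isSolvable_of_surjective h.rangeRestrict_surjective)
          (hkerno.congr (MonoidHom.ofInjective hh)))
        (IH y (by omega) p (V ⧸ U) hy1 hpQ hy g.range
          (Group.isSolvable_of_surjective g.rangeRestrict_surjective) (noP_of_isIrr hgirr hy))).trans ?_
      rw [pow_add p, mul_mul_mul_comm]
      refine Nat.mul_le_mul_right _ ?_
      rw [← pow_add]
      exact Nat.pow_le_pow_right (by norm_num) (by omega)

end Cfsg.Agent.ClassLinear
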