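import Cfsg.Agent.Lib.Grp.ClassLinear.ClassBound

/-!
# Classes of semidirect products with a module
-/

set_option autoImplicit false
set_option linter.style.haveILetI false

universe u v w

namespace Cfsg.Agent.ClassLinear

open SqClass

/-- Linear maps as automorphisms of the underlying group. -/
def toAut (V : Type u) [AddCommGroup V] : (AddMonoid.End V)ˣ →* MulAut (Multiplicative V) where
  toFun x :=
    { toFun := fun v => Multiplicative.ofAdd ((x : AddMonoid.End V) v.toAdd)
      invFun := fun v => Multiplicative.ofAdd (((x⁻¹ : (AddMonoid.End V)ˣ) : AddMonoid.End V) v.toAdd)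
      left_inv := fun v => Multiplicative.toAdd.injective
        (DFunLike.congr_fun (congrArg Units.val (inv_mul_cancel x)) v.toAdd)
      right_inv := fun v => Multiplicative.toAdd.injective
        (DFunLike.congr_fun (congrArg Units.val (mul_inv_cancel x)) v.toAdd)
      map_mul' := fun v w => Multiplicative.toAdd.injective (map_add (x : AddMonoid.End V) _ _) }
  map_one' := MulEquiv.ext fun _ => rfl
  map_mul' _ _ := MulEquiv.ext fun _ => rfl

/-- The semidirect product of a module with a group acting linearly. -/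
abbrev SD {L : Type w} [Group L] {V : Type u} [AddCommGroup V] (f : L →* (AddMonoid.End V)ˣ) :=
  SemidirectProduct (Multiplicative V) L ((toAut V).comp f)

variable {L : Type w} [Group L] {V : Type u} [AddCommGroup V] (f : L →* (AddMonoid.End V)ˣ)

instance [Finite L] [Finite V] : Finite (SD f) := Finite.of_equiv _ SemidirectProduct.equivProd.symm

/-- Changing module and group. -/
theorem classes_sd_congr {L' : Type*} [Group L'] {V' : Type*} [AddCommGroup V']
    (f' : L' →* (AddMonoid.End V')ˣ) (e : L ≃* L') (ε : V ≃+ V')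
    (h : ∀ l x, ε ((f l : AddMonoid.End V) x) = (f' (e l) : AddMonoid.End V') (ε x)) :
    Nat.card (ConjClasses (SD f)) = Nat.card (ConjClasses (SD f')) :=
  card_conjClasses_congr (SemidirectProduct.congr (AddEquiv.toMultiplicative ε) e fun l =>
    MulEquiv.ext fun x => Multiplicative.toAdd.injective (h l x.toAdd))

/-- A faithful group may be replaced by its image. -/
theorem classes_sd_range (hf : Function.Injective f) :
    Nat.card (ConjClasses (SD f)) = Nat.card (ConjClasses (SD f.range.subtype)) :=
  classes_sd_congr f _ (MonoidHom.ofInjective hf) (AddEquiv.refl V) fun _ _ => rfl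

/-- An invariant exact sequence. -/
theorem classes_sd_seq [Finite L] [Finite V] {U V₁ : Type u} [AddCommGroup U] [AddCommGroup V₁]
    [Finite U] [Finite V₁]
    (g : L →* (AddMonoid.End V₁)ˣ) (h : g.ker →* (AddMonoid.End U)ˣ) (ι : U →+ V) (π : V →+ V₁)
    (hι : Function.Injective ι) (hπ : Function.Surjective π) (hex : ∀ x, π x = 0 ↔ ∃ y, ι y = x)
    (hg : ∀ l x, π ((f l : AddMonoid.End V) x) = (g l : AddMonoid.End V₁) (π x))
    (hh : ∀ (l : g.ker) y, (f (l : L) : AddMonoid.End V) (ι y) = ι ((h l : AddMonoid.End U) y)) :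
    Nat.card (ConjClasses (SD f)) ≤
      Nat.card (ConjClasses (SD h)) * Nat.card (ConjClasses (SD g.range.subtype)) := by
  let Φ : SD f →* SD g.range.subtype :=
    SemidirectProduct.map (AddMonoidHom.toMultiplicative π) g.rangeRestrict fun l =>
      MonoidHom.ext fun x => Multiplicative.toAdd.injective (hg l x.toAdd)
  have hΦ : Function.Surjective Φ := by
    rintro ⟨x, ⟨_, l, rfl⟩⟩
    obtain ⟨y, hy⟩ := hπ x.toAdd
    exact ⟨⟨Multiplicative.ofAdd y, l⟩, SemidirectProduct.ext (Multiplicative.toAdd.injective hy) rfl⟩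
  let Ψ₀ : SD h →* SD f :=
    SemidirectProduct.map (AddMonoidHom.toMultiplicative ι) g.ker.subtype fun l =>
      MonoidHom.ext fun x => Multiplicative.toAdd.injective (hh l x.toAdd).symm
  have hrange : Ψ₀.range = Φ.ker := by
    ext z
    rw [MonoidHom.mem_ker]
    constructor
    · rintro ⟨y, rfl⟩
      exact SemidirectProduct.ext (Multiplicative.toAdd.injective ((hex _).mpr ⟨_, rfl⟩))
        (Subtype.ext y.right.2)
    · intro hz
      obtain ⟨y, hy⟩ := (hex z.left.toAdd).mp
        (congrArg (fun t : SD g.range.subtype => t.left.toAdd) hz)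
      refine ⟨⟨Multiplicative.ofAdd y, ⟨z.right, ?_⟩⟩,
        SemidirectProduct.ext (Multiplicative.toAdd.injective hy) rfl⟩
      rw [MonoidHom.mem_ker]
      exact congrArg (fun t : SD g.range.subtype => (t.right : (AddMonoid.End V₁)ˣ)) hz
  have hΨ : Function.Injective Ψ₀ := fun a b e =>
    SemidirectProduct.ext (hι (congrArg (fun t : SD f => t.left.toAdd) e) :)
      (Subtype.ext (congrArg (fun t : SD f => t.right) e))
  refine (classes_le_mul Φ.ker).trans (le_of_eq ?_)
  rw [card_conjClasses_congr (QuotientGroup.quotientKerEquivOfSurjective Φ hΦ),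
    ← card_conjClasses_congr ((MonoidHom.ofInjective hΨ).trans (MulEquiv.subgroupCongr hrange))]

/-- A subgroup of bounded index. -/
theorem classes_sd_index [Finite L] [Finite V] (K : Subgroup L) {T : ℕ} (hT : K.index ≤ T) :
    Nat.card (ConjClasses (SD f)) ≤ T * Nat.card (ConjClasses (SD (f.comp K.subtype))) := by
  let Ψ : SD (f.comp K.subtype) →* SD f :=
    SemidirectProduct.map (MonoidHom.id _) K.subtype fun l => MonoidHom.ext fun x => rfl
  have hΨ : Function.Injective Ψ := fun a b e =>
    SemidirectProduct.ext (congrArg (fun t : SD f => t.left) e :)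
      (Subtype.ext (congrArg (fun t : SD f => t.right) e))
  have hr : Ψ.range = K.comap SemidirectProduct.rightHom := by
    ext z
    constructor
    · rintro ⟨y, rfl⟩
      exact y.right.2
    · intro hz
      exact ⟨⟨z.left, ⟨z.right, hz⟩⟩, rfl⟩
  refine ((Cfsg.Agent.S4200.result Ψ.range).2.1).trans ?_
  rw [← card_conjClasses_congr (MonoidHom.ofInjective hΨ), hr,
    Subgroup.index_comap_of_surjective _ SemidirectProduct.rightHom_surjective]
  exact Nat.mul_le_mul_right _ hT

/-- A normal subgroup of the acting group. -/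
theorem classes_sd_normal [Finite L] [Finite V] (N : Subgroup L) [N.Normal] {c : ℕ}
    (hc : Nat.card (ConjClasses (L ⧸ N)) ≤ c) :
    Nat.card (ConjClasses (SD f)) ≤ Nat.card (ConjClasses (SD (f.comp N.subtype))) * c := by
  let Φ : SD f →* L ⧸ N := (QuotientGroup.mk' N).comp SemidirectProduct.rightHom
  have hΦ : Function.Surjective Φ :=
    (QuotientGroup.mk'_surjective N).comp SemidirectProduct.rightHom_surjective
  let Ψ : SD (f.comp N.subtype) →* SD f :=
    SemidirectProduct.map (MonoidHom.id _) N.subtype fun l => MonoidHom.ext fun x => rfl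
  have hΨ : Function.Injective Ψ := fun a b e =>
    SemidirectProduct.ext (congrArg (fun t : SD f => t.left) e :)
      (Subtype.ext (congrArg (fun t : SD f => t.right) e))
  have hr : Ψ.range = Φ.ker := by
    ext z
    rw [MonoidHom.mem_ker]
    constructor
    · rintro ⟨y, rfl⟩
      exact (QuotientGroup.eq_one_iff _).mpr y.right.2
    · intro hz
      exact ⟨⟨z.left, ⟨z.right, (QuotientGroup.eq_one_iff _).mp hz⟩⟩, rfl⟩
  refine (classes_le_mul Φ.ker).trans ?_
  rw [card_conjClasses_congr (QuotientGroup.quotientKerEquivOfSurjective Φ hΦ),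
    ← card_conjClasses_congr ((MonoidHom.ofInjective hΨ).trans (MulEquiv.subgroupCongr hr))]
  exact Nat.mul_le_mul_left _ hc

/-- No nontrivial normal `p`-subgroup. -/
def NoP (p : ℕ) (A : Type*) [Group A] : Prop :=
  ∀ N : Subgroup A, N.Normal → IsPGroup p N → N = ⊥

theorem NoP.congr {p : ℕ} {A B : Type*} [Group A] [Group B] (h : NoP p A) (e : A ≃* B) : NoP p B := by
  intro N hN hp
  have h1 := h (N.comap e.toMonoidHom) (hN.comap _)
    (hp.of_injective ((e.toMonoidHom.subgroupComap N)) fun a b eq =>
      Subtype.ext (e.injective (congrArg Subtype.val eq)))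
  rw [eq_bot_iff]
  intro x hx
  have : e.symm x ∈ N.comap e.toMonoidHom := by
    show e (e.symm x) ∈ N
    rwa [e.apply_symm_apply]
  rw [h1, Subgroup.mem_bot] at this
  rw [Subgroup.mem_bot, ← e.apply_symm_apply x, this, map_one]

/-- Normal subgroups inherit the absence of normal `p`-subgroups. -/
theorem NoP.normal {p : ℕ} {A : Type*} [Group A] [Finite A] [Fact p.Prime] (h : NoP p A)
    (K : Subgroup A) [K.Normal] : NoP p K := by
  intro N hN hp
  haveI := hN
  haveI hP : (Cfsg.pCore p K).Normal := Grp.pCore_isNormal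
  have hPA := h _ (Grp.normal_of_characteristic_map (Cfsg.pCore p K))
    (Grp.pCore_isPGroup.map K.subtype)
  rw [eq_bot_iff]
  intro x hx
  have : (x : A) ∈ (Cfsg.pCore p K).map K.subtype :=
    ⟨x, Grp.le_pCore hN hp hx, rfl⟩
  rw [hPA, Subgroup.mem_bot] at this
  exact Subgroup.mem_bot.mpr (Subtype.ext this)

end Cfsg.Agent.ClassLinear
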