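import Cfsg.Agent.Lib.Grp.ClassLinear.Split
import Cfsg.Agent.Lib.Grp.SqClass.PrimBound

/-!
# Solvable completely reducible groups on small modules over the fields of two and three elements
-/

set_option autoImplicit false
set_option linter.style.haveILetI false

universe u

namespace Cfsg.Agent.ClassLinear

open SqClass BaseTwo

/-- Order bounds in dimension `a` over the field with `r` elements. -/
def orderBound : ℕ → ℕ → ℕ
  | 2, 1 => 1
  | 2, 2 => 6
  | 2, 3 => 21
  | 2, 4 => 90
  | 2, 5 => 189
  | 2, _ => 1300
  | 3, 1 => 2
  | 3, 2 => 48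
  | 3, 3 => 96
  | _, _ => 4700

/-- The dimensions covered. -/
def maxDim : ℕ → ℕ
  | 2 => 6
  | _ => 4

theorem exists_dim {r : ℕ} [Fact r.Prime] {V U : Type u} [AddCommGroup V] [AddCommGroup U] [Finite U]
    [Nontrivial U] (ι : U →+ V) (hι : Function.Injective ι) (h : ∀ x : V, r • x = 0) :
    (∀ x : U, r • x = 0) ∧ ∃ a, 1 ≤ a ∧ Nat.card U = r ^ a := by
  have hU : ∀ x : U, r • x = 0 := fun x => hι (by rw [map_nsmul, h, map_zero])
  refine ⟨hU, ?_⟩
  letI : Module (ZMod r) U := AddCommGroup.zmodModule (n := r) hU
  haveI : Module.Finite (ZMod r) U := Module.Finite.of_finite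
  exact ⟨Module.finrank (ZMod r) U, Module.finrank_pos, by
    rw [Module.natCard_eq_pow_finrank (K := ZMod r) (V := U), Nat.card_zmod]⟩

/-- The order bound in the primitive case. -/
theorem prim_order {V : Type u} [AddCommGroup V] [Finite V] [Nontrivial V]
    {A : Subgroup (AddMonoid.End V)ˣ} (hsol : Group.IsSolvable A) {r a : ℕ} [Fact r.Prime]
    (hr : r = 2 ∨ r = 3) (ha : a ≤ maxDim r) (P : Prim A V r a) : Nat.card A ≤ orderBound r a := by
  haveI : FaithfulSMul A V := ⟨fun {a b} h => Subtype.ext (Units.ext (AddMonoidHom.ext h))⟩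
  haveI : Finite A := Finite.of_injective _ Subtype.val_injective
  obtain ⟨K, _, _, _, Z, _, D, hZ, m, d, hdim, hK, hfin, hidx, hlayer⟩ := P
  haveI : FiniteDimensional K V := Module.Finite.of_finite
  have hd : 1 ≤ d := hfin ▸ Module.finrank_pos
  have hm : 1 ≤ m := by
    rcases Nat.eq_zero_or_pos m with rfl | h
    · rw [pow_zero] at hK
      exact absurd hK (Finite.one_lt_card (α := K)).ne'
    · exact h
  have ha6 : a ≤ 6 := by rcases hr with rfl | rfl <;> simp only [maxDim] at ha <;> omega
  have hm6 : m ≤ 6 := (Nat.le_mul_of_pos_right m hd).trans (hdim ▸ ha6)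
  have hd6 : d ≤ 6 := (Nat.le_mul_of_pos_left d hm).trans (hdim ▸ ha6)
  have hq : Nat.card Kˣ = r ^ m - 1 := by rw [Nat.card_units, hK]
  have hz : Nat.card Z ≤ r ^ m - 1 := hq ▸ Nat.card_le_card_of_injective _ D.ι_injective
  subst hdim
  rcases hlayer with hZC | ⟨⟨L⟩⟩
  · rw [← Subgroup.card_mul_index (Subgroup.centralizer (Z : Set A)), ← hZC]
    rw [← hZC] at hidx
    refine (Nat.mul_le_mul hz hidx).trans ?_
    rcases hr with rfl | rfl <;> simp only [maxDim] at ha <;> interval_cases m <;> interval_cases d <;>
      first
        | omega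
        | (norm_num [orderBound]; done)
  · obtain ⟨e, he⟩ := exists_card_eq_sq L.b L.alt L.nd
    have hed : e ≤ d := Nat.mul_self_le_mul_self_iff.mp (by rw [← he, ← hfin]; exact L.card_W_le)
    have hW1 := L.one_lt_card
    have he2 : 2 ≤ e := by
      by_contra h
      interval_cases e <;> omega
    have hpr : ∀ s : ℕ, s.Prime → s ∣ e → s ∣ r ^ m - 1 := fun s hs hse => by
      rw [← hq]
      exact BaseTwo.prime_dvd_card_values L.b L.nd hs (by rw [he]; exact Dvd.dvd.mul_right hse e)
    have hsmall := L.bound_small hsol he (by omega)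
    rw [← Subgroup.card_mul_index (Subgroup.centralizer (Z : Set A)), L.card_centralizer, mul_assoc (Nat.card Z)]
    refine (Nat.mul_le_mul (Nat.mul_le_mul hz hsmall) hidx).trans ?_
    rcases hr with rfl | rfl <;> simp only [maxDim] at ha <;> interval_cases m <;> interval_cases d <;>
      try omega
    all_goals interval_cases e <;>
      first
        | omega
        | (norm_num [orderBound]; done)
        | (exfalso; have := hpr 2 Nat.prime_two (dvd_refl _); norm_num at this; done)
        | (exfalso; have := hpr 2 Nat.prime_two ⟨2, rfl⟩; norm_num at this; done)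
        | (exfalso; have := hpr 2 Nat.prime_two ⟨3, rfl⟩; norm_num at this; done)
        | (exfalso; have := hpr 3 Nat.prime_three (dvd_refl _); norm_num at this; done)
        | (exfalso; have := hpr 5 Nat.prime_five (dvd_refl _); norm_num at this; done)

/-- The order bounds. -/
theorem card_small : ∀ (a : ℕ) (A V : Type u) [Group A] [Finite A] [Group.IsSolvable A] [AddCommGroup V]
    [Finite V] [DistribMulAction A V] [FaithfulSMul A V] (r : ℕ), r = 2 ∨ r = 3 → a ≤ maxDim r → 1 ≤ a →
    IsCR A V → (∀ x : V, r • x = 0) → Nat.card V = r ^ a → Nat.card A ≤ orderBound r a := by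
  intro a
  induction a using Nat.strong_induction_on with
  | _ a IH =>
    intro A V _ _ _ _ _ _ _ r hr ha ha1 hcr hrV hV
    haveI : Fact r.Prime := ⟨by rcases hr with rfl | rfl <;> norm_num⟩
    have hr2 : 2 ≤ r := by omega
    haveI : Nontrivial V := Finite.one_lt_card_iff_nontrivial.mp (by
      rw [hV]; exact Nat.one_lt_pow (by omega) (by omega))
    by_cases hirr : IsIrr A V
    · let h := linHom A V
      haveI : Finite h.range := Finite.of_surjective _ h.rangeRestrict_surjective
      have hinj : Function.Injective h.rangeRestrict := fun a b e => eq_of_smul_eq_smul fun x : V =>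
        congrArg (fun t : h.range => ((t : (AddMonoid.End V)ˣ) : AddMonoid.End V) x) e
      refine (Nat.card_le_card_of_injective _ hinj).trans ?_
      have hsol : Group.IsSolvable h.range := Group.isSolvable_of_surjective h.rangeRestrict_surjective
      rcases blocks_or_prim h.range hsol (isIrr_range hirr) (p := r) hV with ⟨⟨D⟩⟩ | ⟨⟨P⟩⟩
      swap
      · exact prim_order hsol hr ha P
      obtain ⟨B, _, _, _, H, n, T, hHirr, hHsol, hn, hVB, hT, hTn, hA, -⟩ :=
        exists_block_group (isIrr_range hirr) hsol D
      obtain ⟨b, -, hB⟩ := (Nat.dvd_prime_pow (Fact.out : r.Prime)).mp (show Nat.card B ∣ r ^ a from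
        hV ▸ hVB ▸ dvd_pow_self _ (by omega))
      have hab : a = b * n := by
        rw [hV, hB, ← pow_mul] at hVB
        exact Nat.pow_right_injective hr2 hVB
      have hb1 : 1 ≤ b := by
        by_contra h0
        rw [show b = 0 by omega, pow_zero] at hB
        exact (Finite.one_lt_card (α := B)).ne' hB
      have hblt : b < a := by
        rw [hab]
        calc b = b * 1 := (mul_one b).symm
          _ < b * n := Nat.mul_lt_mul_of_pos_left (by omega) (by omega)
      haveI : FaithfulSMul H B := ⟨fun {a b} e => Subtype.ext (Units.ext (AddMonoidHom.ext e))⟩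
      haveI : Finite H := Finite.of_injective _ Subtype.val_injective
      haveI := hHsol
      obtain ⟨q, hq, hqB⟩ := BaseThree.exists_prime_nsmul_eq_zero hHirr
      have hqr : q = r := by
        obtain ⟨x, hx⟩ := exists_ne (0 : B)
        haveI := Fact.mk hq
        have hd := addOrderOf_dvd_natCard x
        rw [addOrderOf_eq_prime (hqB x) hx, hB] at hd
        exact (Nat.prime_dvd_prime_iff_eq hq Fact.out).mp (hq.dvd_of_dvd_pow hd)
      subst hqr
      have hH := IH b hblt H B q hr (hblt.le.trans ha) hb1 (isCR_of_isIrr hHirr) hqB hB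
      refine hA.trans ((Nat.mul_le_mul_right _ (Nat.pow_le_pow_left hH n)).trans ?_)
      have ha6 : a ≤ 6 := by rcases hr with rfl | rfl <;> simp only [maxDim] at ha <;> omega
      have hb6 : b ≤ 6 := by omega
      have hn6 : n ≤ 6 := (Nat.le_mul_of_pos_left n (by omega)).trans (hab ▸ ha6)
      have hcube : ∀ M c : ℕ, T ^ 3 ≤ M → M < (c + 1) ^ 3 → T ≤ c := fun M c h1 h2 => by
        by_contra h3
        exact absurd ((Nat.pow_le_pow_left (by omega : c + 1 ≤ T) 3).trans h1) (by omega)
      subst hab
      rcases hr with rfl | rfl <;> simp only [maxDim] at ha <;> interval_cases n <;> interval_cases b <;>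
        first
          | omega
          | (norm_num [Nat.factorial] at hTn hT; norm_num [orderBound]; omega)
          | (norm_num at hT; norm_num [orderBound]; have := hcube _ 69 hT (by norm_num); omega)
          | (norm_num at hT; norm_num [orderBound]; have := hcube _ 199 hT (by norm_num); omega)
    · obtain ⟨U, W, _, _, _, _, _, _, H, J, f, g, ι, κ, hVc, hι, hκ, -, -, hf, hg, hHcr, hJcr, hfg⟩ :=
        exists_split hcr hirr
      obtain ⟨hrU, x, hx1, hx⟩ := exists_dim (r := r) ι hι hrV
      obtain ⟨hrW, y, hy1, hy⟩ := exists_dim (r := r) κ hκ hrV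
      have hxy : a = x + y := by
        rw [hV, hx, hy, ← pow_add] at hVc
        exact Nat.pow_right_injective hr2 hVc
      haveI : FaithfulSMul H U := ⟨fun {a b} e => Subtype.ext (Units.ext (AddMonoidHom.ext e))⟩
      haveI : FaithfulSMul J W := ⟨fun {a b} e => Subtype.ext (Units.ext (AddMonoidHom.ext e))⟩
      haveI : Finite H := Finite.of_surjective _ hf
      haveI : Finite J := Finite.of_surjective _ hg
      haveI : Group.IsSolvable H := Group.isSolvable_of_surjective hf
      haveI : Group.IsSolvable J := Group.isSolvable_of_surjective hg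
      have h1 := IH x (by omega) H U r hr (by omega) hx1 hHcr hrU hx
      have h2 := IH y (by omega) J W r hr (by omega) hy1 hJcr hrW hy
      refine (Nat.card_le_card_of_injective _ hfg).trans ?_
      rw [Nat.card_prod]
      refine (Nat.mul_le_mul h1 h2).trans ?_
      subst hxy
      rcases hr with rfl | rfl <;> simp only [maxDim] at ha <;>
        (have hx6 : x ≤ 6 := by omega) <;> (have hy6 : y ≤ 6 := by omega) <;>
        interval_cases x <;> interval_cases y <;> first | omega | norm_num [orderBound]

/-! ### Cyclic normal subgroups -/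

/-- An abelian normal subgroup with small centralisers outside. -/
theorem subK_normal_abelian {A : Type*} [Group A] [Finite A] (Y : Subgroup A) {j c : ℕ}
    (hj : Y.index ≤ j) (hc : ∀ g, g ∉ Y → Nat.card ↥(Y ⊓ Subgroup.centralizer ({g} : Set A)) ≤ c) :
    SubK A (Nat.card Y + (j - 1) * c) := by
  classical
  intro X
  letI := Fintype.ofFinite X
  set Y' := Y.subgroupOf X with hY'
  have hi : Y'.index ≤ j := (Subgroup.relIndex_le_of_le_right le_top (by
      rw [Subgroup.relIndex_top_right]; exact Subgroup.index_ne_zero_of_finite)).trans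
    ((le_of_eq Y.relIndex_top_right).trans hj)
  have hYc : Nat.card Y' ≤ Nat.card Y :=
    Nat.card_le_card_of_injective (fun y => (⟨((y : X) : A), y.2⟩ : Y))
      fun a b e => Subtype.ext (Subtype.ext (congrArg (fun t : Y => (t : A)) e))
  have hout : ∀ g : X, g ∉ Y' → Nat.card (Subgroup.centralizer ({g} : Set X)) ≤ Y'.index * c := by
    intro g hg
    set Cg := Subgroup.centralizer ({g} : Set X)
    rw [← (Y'.subgroupOf Cg).card_mul_index, mul_comm Y'.index]
    refine Nat.mul_le_mul (le_trans ?_ (hc (g : A) hg)) ?_
    · refine Nat.card_le_card_of_injective (fun y => (⟨((y : Cg) : X), Subgroup.mem_inf.mpr ⟨y.2, ?_⟩⟩ :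
        ↥(Y ⊓ Subgroup.centralizer ({(g : A)} : Set A)))) fun a b e => ?_
      · exact Subgroup.mem_centralizer_singleton_iff.mpr
          (congrArg Subtype.val (Subgroup.mem_centralizer_singleton_iff.mp (y : Cg).2))
      · exact Subtype.ext (Subtype.ext (Subtype.ext (congrArg (fun t : ↥(Y ⊓ _) => (t : A)) e)))
    · exact (Subgroup.relIndex_le_of_le_right le_top (by
        rw [Subgroup.relIndex_top_right]; exact Subgroup.index_ne_zero_of_finite)).trans
        (le_of_eq Y'.relIndex_top_right)
  refine Nat.le_of_mul_le_mul_right ?_ (Nat.card_pos (α := X))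
  rw [classes_mul_card, add_mul, ← Finset.sum_filter_add_sum_filter_not Finset.univ (· ∈ Y')]
  refine Nat.add_le_add ?_ ?_
  · calc ∑ g ∈ Finset.univ.filter (· ∈ Y'), Nat.card (Subgroup.centralizer ({g} : Set X))
        ≤ (Finset.univ.filter (· ∈ Y')).card * Nat.card X := by
          rw [← smul_eq_mul]
          exact Finset.sum_le_card_nsmul _ _ _ fun a _ => Subgroup.card_le_card_group _
      _ ≤ Nat.card Y * Nat.card X := by
          refine Nat.mul_le_mul_right _ (le_of_eq_of_le ?_ hYc)
          rw [← Fintype.card_subtype, Nat.card_eq_fintype_card]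
  · calc ∑ g ∈ Finset.univ.filter (fun g => ¬ g ∈ Y'), Nat.card (Subgroup.centralizer ({g} : Set X))
        ≤ (Finset.univ.filter (fun g => ¬ g ∈ Y')).card * (Y'.index * c) := by
          rw [← smul_eq_mul]
          exact Finset.sum_le_card_nsmul _ _ _ fun a ha => hout a (Finset.mem_filter.mp ha).2
      _ = ((Nat.card X - Nat.card Y') * Y'.index) * c := by
          rw [mul_assoc]
          congr 1
          rw [Finset.filter_not, Finset.card_sdiff_of_subset (Finset.filter_subset _ _), Finset.card_univ,
            ← Fintype.card_subtype, Nat.card_eq_fintype_card, Nat.card_eq_fintype_card]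
      _ ≤ ((j - 1) * c) * Nat.card X := by
          rw [mul_right_comm _ c]
          refine Nat.mul_le_mul_right _ ?_
          rw [← Y'.card_mul_index, Nat.sub_mul, mul_comm (j - 1)]
          have h1 : Nat.card Y' * Y'.index * Y'.index ≤ Nat.card Y' * Y'.index * j :=
            Nat.mul_le_mul_left _ hi
          rw [Nat.mul_sub, mul_one]
          omega

/-- Fixed subfields of nontrivial automorphisms are small. -/
theorem card_fixed_sq_le {K : Type*} [Field K] [Finite K] (σ : RingAut K) (hσ : σ ≠ 1) :
    Nat.card {x : K // σ x = x} * Nat.card {x : K // σ x = x} ≤ Nat.card K := by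
  obtain ⟨k, hk⟩ : ∃ k : K, σ k ≠ k := by
    by_contra h
    push Not at h
    exact hσ (RingEquiv.ext h)
  rw [← Nat.card_prod]
  refine Nat.card_le_card_of_injective (fun z : {x : K // σ x = x} × {x : K // σ x = x} =>
    (z.1 : K) + (z.2 : K) * k) ?_
  rintro ⟨⟨a, ha⟩, ⟨b, hb⟩⟩ ⟨⟨a', ha'⟩, ⟨b', hb'⟩⟩ h
  change a + b * k = a' + b' * k at h
  have hbb : b = b' := by
    by_contra hne
    refine hk ?_
    have hk' : k = (a' - a) / (b - b') := by
      rw [eq_div_iff (sub_ne_zero.mpr hne)]
      linear_combination h
    rw [hk', map_div₀, map_sub, map_sub, ha, ha', hb, hb']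
  subst hbb
  have : a = a' := by linear_combination h
  subst this
  rfl

/-- Semilinear groups with commutative centraliser. -/
theorem subK_semilinear {V : Type u} [AddCommGroup V] [Finite V] [Nontrivial V]
    {A : Subgroup (AddMonoid.End V)ˣ} {r a : ℕ} (P : Prim A V r a)
    (hZC : P.Z = Subgroup.centralizer (P.Z : Set A)) {c : ℕ} (hc : (r ^ P.m) < (c + 2) * (c + 2)) :
    SubK A ((r ^ P.m - 1) + (P.m - 1) * c) := by
  haveI : FaithfulSMul A V := ⟨fun {a b} h => Subtype.ext (Units.ext (AddMonoidHom.ext h))⟩
  haveI : Finite A := Finite.of_injective _ Subtype.val_injective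
  letI := P.fld; haveI := P.fin; letI := P.mod; haveI := P.normal
  refine (subK_normal_abelian P.Z (j := P.m) (c := c) ?_ ?_).mono ?_
  · conv_lhs => rw [hZC]
    exact P.index_le
  · intro g hg
    have hσ : P.D.σ g ≠ 1 := by
      intro h
      apply hg
      rw [hZC, ← P.D.ker_eq]
      exact h
    have h1 : Nat.card ↥(P.Z ⊓ Subgroup.centralizer ({g} : Set A)) + 1 ≤
        Nat.card {x : P.K // P.D.σ g x = x} := by
      let F : Option ↥(P.Z ⊓ Subgroup.centralizer ({g} : Set A)) → {x : P.K // P.D.σ g x = x} :=
        fun o => match o with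
        | none => ⟨0, map_zero _⟩
        | some z => ⟨(P.D.ι ⟨z, (Subgroup.mem_inf.mp z.2).1⟩ : P.K), by
            obtain ⟨v, hv⟩ := exists_ne (0 : V)
            refine smul_left_injective P.K
              (fun h0 => hv (MulAction.injective g (h0.trans (smul_zero g).symm))) ?_
            show P.D.σ g _ • (g • v) = _ • (g • v)
            rw [← P.D.semilinear, ← P.D.scalar, ← P.D.scalar, ← mul_smul, ← mul_smul]
            exact congrArg (· • v)
              (Subgroup.mem_centralizer_singleton_iff.mp (Subgroup.mem_inf.mp z.2).2).symm⟩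
      have hF : Function.Injective F := by
        rintro (_ | z) (_ | w) h
        · rfl
        · exact absurd (congrArg Subtype.val h).symm (Units.ne_zero _)
        · exact absurd (congrArg Subtype.val h) (Units.ne_zero _)
        · refine congrArg some (Subtype.ext ?_)
          exact congrArg (fun t : P.Z => (t : A)) (P.D.ι_injective (Units.ext (congrArg Subtype.val h)))
      have := Nat.card_le_card_of_injective F hF
      rwa [Finite.card_option] at this
    have h2 := card_fixed_sq_le (P.D.σ g) hσ
    rw [P.card_K] at h2
    by_contra hlt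
    have h3 := Nat.mul_le_mul (show c + 2 ≤ Nat.card {x : P.K // P.D.σ g x = x} by omega)
      (show c + 2 ≤ Nat.card {x : P.K // P.D.σ g x = x} by omega)
    omega
  · refine Nat.add_le_add_right ?_ _
    have := Nat.card_le_card_of_injective _ P.D.ι_injective
    rwa [Nat.card_units, P.card_K] at this

/-- Bounds for the classes of all subgroups on at most sixteen points. -/
theorem subK_two : ∀ (a : ℕ) (A V : Type u) [Group A] [Finite A] [Group.IsSolvable A] [AddCommGroup V]
    [Finite V] [DistribMulAction A V] [FaithfulSMul A V], a ≤ 4 → 1 ≤ a → IsCR A V →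
    (∀ x : V, 2 • x = 0) → Nat.card V = 2 ^ a → SubK A (3 ^ (a - 1)) := by
  intro a
  induction a using Nat.strong_induction_on with
  | _ a IH =>
    intro A V _ _ _ _ _ _ _ ha ha1 hcr h2V hV
    haveI := Fact.mk Nat.prime_two
    haveI : Nontrivial V := Finite.one_lt_card_iff_nontrivial.mp (by
      rw [hV]; exact Nat.one_lt_pow (by omega) (by omega))
    have hord := card_small a A V 2 (Or.inl rfl) (by simp only [maxDim]; omega) ha1 hcr h2V hV
    rcases (show a = 1 ∨ a = 2 ∨ 3 ≤ a by omega) with rfl | rfl | ha3
    · exact subK_of_card_le (hord.trans (by norm_num [orderBound]))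
    · -- two dimensions: a subgroup of the symmetric group of degree three
      classical
      haveI := Fintype.ofFinite V
      let φ : A →* Equiv.Perm {x : V // x ≠ 0} := MonoidHom.mk'
        (fun a => (MulAction.toPerm a).subtypePerm fun x => (smul_ne_zero_iff_ne a))
        fun a b => Equiv.ext fun x => Subtype.ext (mul_smul a b (x : V))
      have hφ : Function.Injective φ := fun a b e => eq_of_smul_eq_smul fun x : V => by
        by_cases hx : x = 0
        · rw [hx, smul_zero, smul_zero]
        · exact congrArg Subtype.val (Equiv.ext_iff.mp e ⟨x, hx⟩)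
      have h3 : Fintype.card {x : V // x ≠ 0} = 3 := by
        rw [Fintype.card_subtype_compl, Fintype.card_subtype_eq, ← Nat.card_eq_fintype_card, hV]
        rfl
      let e := (Fintype.equivFinOfCardEq h3).permCongrHom
      refine SubK.of_injective ?_ (e.toMonoidHom.comp φ) (e.injective.comp hφ)
      intro X
      by_cases hX : X = ⊤
      · rw [hX, card_conjClasses_congr Subgroup.topEquiv]
        have : Nat.card (ConjClasses (Equiv.Perm (Fin 3))) * 6 = 18 := by
          have h6 : Nat.card (Equiv.Perm (Fin 3)) = 6 := by rw [Nat.card_perm, Nat.card_fin]; rfl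
          rw [← h6, ← card_comm_eq_card_conjClasses_mul_card, Nat.card_eq_fintype_card, Fintype.card_subtype]
          have hd : ((Finset.univ : Finset (Equiv.Perm (Fin 3) × Equiv.Perm (Fin 3))).filter
              fun x => decide (x.1 * x.2 = x.2 * x.1) = true).card = 18 := by decide +kernel
          rw [← hd]
          congr 1
          ext x
          simp [commute_iff_eq]
        omega
      · refine card_classes_le.trans ?_
        have hd := Subgroup.card_subgroup_dvd_card X
        have hlt : Nat.card X ≠ 6 := fun h => hX (Subgroup.eq_top_of_card_eq X (by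
          rw [h, Nat.card_perm, Nat.card_fin]; rfl))
        rw [Nat.card_perm, Nat.card_fin, show Nat.factorial 3 = 6 from rfl] at hd
        have := Nat.le_of_dvd (by norm_num) hd
        interval_cases hc : Nat.card X <;> omega
    by_cases hirr : IsIrr A V
    · let h := linHom A V
      haveI : Finite h.range := Finite.of_surjective _ h.rangeRestrict_surjective
      have hinj : Function.Injective h.rangeRestrict := fun a b e => eq_of_smul_eq_smul fun x : V =>
        congrArg (fun t : h.range => ((t : (AddMonoid.End V)ˣ) : AddMonoid.End V) x) e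
      refine SubK.of_injective ?_ h.rangeRestrict hinj
      have hsol : Group.IsSolvable h.range := Group.isSolvable_of_surjective h.rangeRestrict_surjective
      rcases blocks_or_prim h.range hsol (isIrr_range hirr) (p := 2) hV with ⟨⟨D⟩⟩ | ⟨⟨P⟩⟩
      swap
      · have hm := P.dim
        have hcard := P.card_K
        letI := P.fld; haveI := P.fin; letI := P.mod; haveI := P.normal
        haveI : FiniteDimensional P.K V := Module.Finite.of_finite
        have hd : 1 ≤ P.d := P.finrank_eq ▸ Module.finrank_pos
        have hm1 : 1 ≤ P.m := by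
          rcases Nat.eq_zero_or_pos P.m with h0 | h0
          · rw [h0, pow_zero] at hcard
            exact absurd hcard (Finite.one_lt_card (α := P.K)).ne'
          · exact h0
        haveI : FaithfulSMul h.range V := ⟨fun {a b} e => Subtype.ext (Units.ext (AddMonoidHom.ext e))⟩
        rcases P.layer with hZC | ⟨⟨L⟩⟩
        · have hz : Nat.card P.Z ≤ 2 ^ P.m - 1 := by
            have := Nat.card_le_card_of_injective _ P.D.ι_injective
            rwa [Nat.card_units, hcard] at this
          have hidx : P.Z.index ≤ P.m := by conv_lhs => rw [hZC]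
                                            exact P.index_le
          have hcardA : Nat.card h.range ≤ (2 ^ P.m - 1) * P.m := by
            rw [← P.Z.card_mul_index]
            exact Nat.mul_le_mul hz hidx
          have hm4 : P.m ≤ 4 := (Nat.le_mul_of_pos_right P.m hd).trans (hm ▸ ha)
          by_cases hm3 : 3 ≤ P.m
          · refine (subK_semilinear P hZC (c := if P.m = 3 then 1 else 3) ?_).mono ?_ <;>
              interval_cases hPm : P.m <;> norm_num
            · calc 9 = 3 ^ 2 := rfl
                _ ≤ _ := Nat.pow_le_pow_right (by norm_num) (by omega)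
            · have : a = 4 := by
                have : 4 ∣ a := ⟨P.d, hm⟩
                omega
              subst this; norm_num
          · refine subK_of_card_le (hcardA.trans ?_)
            calc (2 ^ P.m - 1) * P.m ≤ 9 := by interval_cases P.m <;> norm_num
              _ = 3 ^ 2 := rfl
              _ ≤ _ := Nat.pow_le_pow_right (by norm_num) (by omega)
        · exfalso
          obtain ⟨e, he⟩ := exists_card_eq_sq L.b L.alt L.nd
          have hW1 := L.one_lt_card
          have he2 : 2 ≤ e := by
            by_contra h
            interval_cases e <;> omega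
          have hed : e ≤ P.d :=
            Nat.mul_self_le_mul_self_iff.mp (by rw [← he, ← P.finrank_eq]; exact L.card_W_le)
          obtain ⟨s, hs, hse⟩ := Nat.exists_prime_and_dvd (show e ≠ 1 by omega)
          have hsd := BaseTwo.prime_dvd_card_values L.b L.nd hs (by rw [he]; exact Dvd.dvd.mul_right hse e)
          rw [Nat.card_units, hcard] at hsd
          have hse' := Nat.le_of_dvd (by omega) hse
          have hs2 := hs.two_le
          have hd4 : P.d ≤ 4 := (Nat.le_mul_of_pos_left P.d hm1).trans (hm ▸ ha)
          have hmd : P.m * P.d ≤ 4 := hm ▸ ha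
          have hm2 : P.m ≤ 2 := by
            by_contra hm3
            have := Nat.mul_le_mul (Nat.lt_of_not_le hm3) (he2.trans hed)
            omega
          interval_cases hPm : P.m
          · norm_num at hsd
            omega
          · norm_num at hsd
            have : s = 3 := (Nat.prime_dvd_prime_iff_eq hs Nat.prime_three).mp hsd
            omega
      · obtain ⟨B, _, _, _, H, n, T, ⟨hHirr, hHsol, hn, hVB, hT, hTn, hA, -⟩, -, K, hKn, hKT, ψ, hψ, -⟩ :=
          exists_block_group' (isIrr_range hirr) hsol D
        obtain ⟨b, -, hB⟩ := (Nat.dvd_prime_pow Nat.prime_two).mp (show Nat.card B ∣ 2 ^ a from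
          hV ▸ hVB ▸ dvd_pow_self _ (by omega))
        have hab : a = b * n := by
          rw [hV, hB, ← pow_mul] at hVB
          exact Nat.pow_right_injective le_rfl hVB
        have hb1 : 1 ≤ b := by
          by_contra h0
          rw [show b = 0 by omega, pow_zero] at hB
          exact (Finite.one_lt_card (α := B)).ne' hB
        have hblt : b < a := by
          rw [hab]
          calc b = b * 1 := (mul_one b).symm
            _ < b * n := Nat.mul_lt_mul_of_pos_left (by omega) (by omega)
        haveI : FaithfulSMul H B := ⟨fun {a b} e => Subtype.ext (Units.ext (AddMonoidHom.ext e))⟩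
        haveI : Finite H := Finite.of_injective _ Subtype.val_injective
        haveI := hHsol
        haveI := hKn
        obtain ⟨q, hq, hqB⟩ := BaseThree.exists_prime_nsmul_eq_zero hHirr
        have hq2 : q = 2 := by
          obtain ⟨x, hx⟩ := exists_ne (0 : B)
          haveI := Fact.mk hq
          have hd := addOrderOf_dvd_natCard x
          rw [addOrderOf_eq_prime (hqB x) hx, hB] at hd
          exact (Nat.prime_dvd_prime_iff_eq hq Nat.prime_two).mp (hq.dvd_of_dvd_pow hd)
        subst hq2
        have hH := IH b hblt H B (by omega) hb1 (isCR_of_isIrr hHirr) hqB hB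
        refine (SubK.of_index K ((hH.pow n).of_injective ψ hψ) hKT).mono ?_
        have hb4 : b ≤ 4 := by omega
        have hn4 : n ≤ 4 := (Nat.le_mul_of_pos_left n (by omega)).trans (hab ▸ ha)
        subst hab
        interval_cases n <;> interval_cases b <;> norm_num [Nat.factorial] at hTn ⊢ <;> omega
    · obtain ⟨U, W, _, _, _, _, _, _, H, J, f, g, ι, κ, hVc, hι, hκ, -, -, hf, hg, hHcr, hJcr, hfg⟩ :=
        exists_split hcr hirr
      obtain ⟨h2U, x, hx1, hx⟩ := exists_dim (r := 2) ι hι h2V
      obtain ⟨h2W, y, hy1, hy⟩ := exists_dim (r := 2) κ hκ h2V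
      have hxy : a = x + y := by
        rw [hV, hx, hy, ← pow_add] at hVc
        exact Nat.pow_right_injective le_rfl hVc
      haveI : FaithfulSMul H U := ⟨fun {a b} e => Subtype.ext (Units.ext (AddMonoidHom.ext e))⟩
      haveI : FaithfulSMul J W := ⟨fun {a b} e => Subtype.ext (Units.ext (AddMonoidHom.ext e))⟩
      haveI : Finite H := Finite.of_surjective _ hf
      haveI : Finite J := Finite.of_surjective _ hg
      haveI : Group.IsSolvable H := Group.isSolvable_of_surjective hf
      haveI : Group.IsSolvable J := Group.isSolvable_of_surjective hg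
      have h1 := IH x (by omega) H U (by omega) hx1 hHcr h2U hx
      have h2 := IH y (by omega) J W (by omega) hy1 hJcr h2W hy
      refine ((h1.prod h2).of_injective _ hfg).mono ?_
      rw [← pow_add]
      exact Nat.pow_le_pow_right (by norm_num) (by omega)

end Cfsg.Agent.ClassLinear
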