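import Cfsg.Agent.Lib.Grp.ClassLinear.CyclicNormal
import Cfsg.Agent.Lib.Grp.SqClass.Main
import Cfsg.Agent.Lib.Grp.Cores
import Cfsg.Agent.Lib.Grp.Solvable

/-!
# Class number of a solvable group with a prime dividing the index of the Fitting subgroup
-/

set_option autoImplicit false
set_option linter.style.haveILetI false

universe u

namespace Cfsg.Agent.ClassLinear

open SqClass BaseTwo
open Grp (exists_minimal_normal_le minimal_normal_solvable card_quotient_lt le_fittingSubgroup
  fittingSubgroup_isNilpotent fittingSubgroup_isNormal normal_of_characteristic_map)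

/-- Commutative case: the exponential beats the square. -/
theorem key_abelian {L o : ℕ} (hL : 6 ≤ L) (ho : 3 * L + 1 ≤ o) :
    2 ^ (2 * L + 1) * (o * o) ≤ 9 * L * L * 2 ^ o := by
  induction o, ho using Nat.le_induction with
  | base =>
    have h1 : 2 * ((3 * L + 1) * (3 * L + 1)) ≤ 2 * (9 * L * L * 2 ^ L) := by
      have : 2 ≤ 2 ^ L := by calc 2 = 2 ^ 1 := rfl
                                 _ ≤ 2 ^ L := Nat.pow_le_pow_right (by norm_num) (by omega)
      have h3 : (3 * L + 1) * (3 * L + 1) ≤ 9 * L * L * 2 := by nlinarith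
      exact Nat.mul_le_mul_left _ (h3.trans (Nat.mul_le_mul_left _ this))
    calc 2 ^ (2 * L + 1) * ((3 * L + 1) * (3 * L + 1))
        = 2 ^ (2 * L) * (2 * ((3 * L + 1) * (3 * L + 1))) := by rw [pow_succ]; ring
      _ ≤ 2 ^ (2 * L) * (2 * (9 * L * L * 2 ^ L)) := Nat.mul_le_mul_left _ h1
      _ = 9 * L * L * 2 ^ (3 * L + 1) := by
          rw [pow_succ, show 3 * L = 2 * L + L by ring, pow_add]; ring
  | succ o ho ih =>
    have h3 : (o + 1) * (o + 1) ≤ 2 * (o * o) := by nlinarith
    calc 2 ^ (2 * L + 1) * ((o + 1) * (o + 1)) ≤ 2 ^ (2 * L + 1) * (2 * (o * o)) :=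
          Nat.mul_le_mul_left _ h3
      _ = 2 * (2 ^ (2 * L + 1) * (o * o)) := by ring
      _ ≤ 2 * (9 * L * L * 2 ^ o) := Nat.mul_le_mul_left _ ih
      _ = _ := by rw [pow_succ]; ring

/-- Noncommutative case: the exponential beats the sixth power. -/
theorem key_nonabelian {L o : ℕ} (hL : 6 ≤ L) (ho : 3 * L + 1 ≤ o) :
    2 ^ (6 * L + 6) * o ^ 6 ≤ 729 * L ^ 6 * (5832 * 4 ^ o) := by
  induction o, ho using Nat.le_induction with
  | base =>
    have h1 : (3 * L + 1) ^ 6 ≤ (4 * L) ^ 6 := Nat.pow_le_pow_left (by omega) 6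
    calc 2 ^ (6 * L + 6) * (3 * L + 1) ^ 6 ≤ 2 ^ (6 * L + 6) * (4 * L) ^ 6 := Nat.mul_le_mul_left _ h1
      _ = 2 ^ (6 * L) * (L ^ 6 * 262144) := by rw [pow_add, mul_pow]; ring
      _ ≤ 2 ^ (6 * L) * (L ^ 6 * (729 * (5832 * 4))) := by gcongr; norm_num
      _ = 729 * L ^ 6 * (5832 * 4 ^ (3 * L + 1)) := by
          rw [pow_succ 4 (3 * L), show (4 : ℕ) ^ (3 * L) = 2 ^ (6 * L) by
            rw [show (4 : ℕ) = 2 ^ 2 from rfl, ← pow_mul]; ring_nf]
          ring
  | succ o ho ih =>
    have h0 : 10 * (o + 1) ≤ 11 * o := by omega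
    have h3 : (o + 1) ^ 6 ≤ 4 * o ^ 6 := by
      have h := Nat.pow_le_pow_left h0 6
      rw [mul_pow, mul_pow] at h
      norm_num at h
      omega
    calc 2 ^ (6 * L + 6) * (o + 1) ^ 6 ≤ 2 ^ (6 * L + 6) * (4 * o ^ 6) := Nat.mul_le_mul_left _ h3
      _ = 4 * (2 ^ (6 * L + 6) * o ^ 6) := by ring
      _ ≤ 4 * (729 * L ^ 6 * (5832 * 4 ^ o)) := Nat.mul_le_mul_left _ ih
      _ = _ := by rw [pow_succ]; ring

theorem four_mul_le_sq (a b : ℕ) : 4 * (a * b) ≤ (a + b) * (a + b) := by
  rcases Nat.le_total a b with h | h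
  · obtain ⟨c, rfl⟩ := Nat.exists_eq_add_of_le h
    nlinarith
  · obtain ⟨c, rfl⟩ := Nat.exists_eq_add_of_le h
    nlinarith

/-- Orbits times classes. -/
theorem crit {m x N k C : ℕ} (hx : m - 1 ≤ x * N) (hN : N ≤ C * k) (hm : 2 ≤ m) :
    2 * m ≤ C * ((k + x) * (k + x)) := by
  calc 2 * m ≤ 4 * (m - 1) := by omega
    _ ≤ 4 * (x * N) := Nat.mul_le_mul_left _ hx
    _ ≤ 4 * (x * (C * k)) := Nat.mul_le_mul_left _ (Nat.mul_le_mul_left _ hN)
    _ = C * (4 * (k * x)) := by ring
    _ ≤ _ := Nat.mul_le_mul_left _ (four_mul_le_sq k x)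

/-- The logarithm is at least six. -/
theorem six_le_log {p : ℕ} (hp : 64 ≤ p) : 6 ≤ Nat.log 2 p :=
  (Nat.le_log_iff_pow_le (by norm_num) (by omega)).mpr (by norm_num; omega)

set_option maxHeartbeats 800000 in
/-- A group with a nontrivial normal `p`-subgroup acting irreducibly. -/
theorem linear_core {V : Type u} [AddCommGroup V] [Finite V] [Nontrivial V]
    (A : Subgroup (AddMonoid.End V)ˣ) (hsol : Group.IsSolvable A) (hirr : IsIrr A V) {p : ℕ}
    [hp : Fact p.Prime] (hp64 : 64 ≤ p) (P : Subgroup A) [hPn : P.Normal] (hP : IsPGroup p P)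
    (hP0 : P ≠ ⊥) {x : ℕ} (hx : Nat.card V - 1 ≤ x * Nat.card A) :
    p ≤ 3 * Nat.log 2 p * (Nat.card (ConjClasses A) + x) := by
  classical
  haveI : FaithfulSMul A V := ⟨fun {a b} h => Subtype.ext (Units.ext (AddMonoidHom.ext h))⟩
  haveI : Finite A := Finite.of_injective _ Subtype.val_injective
  haveI := hsol
  set L := Nat.log 2 p with hLdef
  have hL : 6 ≤ L := six_le_log hp64
  have hp2L : p < 2 ^ (L + 1) := Nat.lt_pow_succ_log_self (by norm_num) p
  set k := Nat.card (ConjClasses A) with hkdef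
  obtain ⟨Z0, hZn, hZ0, hZP, hZmin⟩ := exists_minimal_normal_le hP0
  haveI := hZn
  obtain ⟨hab, q, hq, hexp⟩ := minimal_normal_solvable (N := Z0) inferInstance hZ0 hZmin
  haveI := hab
  have hZp : IsPGroup p Z0 := hP.to_le hZP
  obtain ⟨a, ha⟩ := IsPGroup.iff_card.mp hZp
  have ha1 : 1 ≤ a := by
    by_contra h
    rw [show a = 0 by omega, pow_zero] at ha
    exact hZ0 (Subgroup.card_eq_one.mp ha)
  have hqp : q = p := by
    obtain ⟨y, hy, hy1⟩ := (Subgroup.ne_bot_iff_exists_ne_one.mp hZ0 |> fun ⟨y, hy⟩ =>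
      (⟨(y : A), y.2, fun h => hy (Subtype.ext h)⟩ : ∃ y, y ∈ Z0 ∧ y ≠ 1))
    haveI := Fact.mk hq
    have h1 : orderOf (⟨y, hy⟩ : Z0) = q :=
      orderOf_eq_prime (Subtype.ext (hexp y hy)) fun h => hy1 (congrArg Subtype.val h)
    have h2 := orderOf_dvd_natCard (⟨y, hy⟩ : Z0)
    rw [h1, ha] at h2
    exact (Nat.prime_dvd_prime_iff_eq hq hp.out).mp (hq.dvd_of_dvd_pow h2)
  rw [hqp] at hexp
  obtain ⟨x0, hk0, hx0⟩ := exists_classes_bound Z0
  have hq1 : 1 ≤ Nat.card (ConjClasses (A ⧸ Z0)) := one_le_classes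
  rcases Nat.lt_or_ge a 2 with ha' | ha2
  · -- a normal subgroup of prime order
    obtain rfl : a = 1 := by omega
    rw [pow_one] at ha
    haveI : IsCyclic Z0 := isCyclic_of_prime_card ha
    obtain ⟨⟨z, hzZ⟩, hz⟩ := IsCyclic.exists_generator (α := Z0)
    have hzp : Subgroup.zpowers z = Z0 := by
      refine le_antisymm (Subgroup.zpowers_le.mpr hzZ) fun y hy => ?_
      obtain ⟨j, hj⟩ := Subgroup.mem_zpowers_iff.mp (hz ⟨y, hy⟩)
      exact Subgroup.mem_zpowers_iff.mpr ⟨j, congrArg Subtype.val hj⟩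
    have hord : orderOf z = p := by rw [← Nat.card_zpowers, hzp, ha]
    set o := (Subgroup.centralizer (Z0 : Set A)).index with ho
    rw [ha] at hx0
    by_cases hsmall : o ≤ 3 * L
    · calc p ≤ x0 * o + 1 := by omega
        _ ≤ x0 * (3 * L) + 1 := by gcongr
        _ ≤ x0 * (3 * L) + 3 * L := by omega
        _ = 3 * L * (x0 + 1) := by ring
        _ ≤ 3 * L * (k + x) := Nat.mul_le_mul_left _ (by omega)
    have ho' : 3 * L + 1 ≤ o := by omega
    have hpk : ∀ hbad : 3 * L * (k + x) < p, 9 * L * L * ((k + x) * (k + x)) < 2 ^ (2 * L + 2) := by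
      intro hbad
      have := Nat.mul_lt_mul'' (hbad.trans hp2L) (hbad.trans hp2L)
      calc 9 * L * L * ((k + x) * (k + x)) = 3 * L * (k + x) * (3 * L * (k + x)) := by ring
        _ < 2 ^ (L + 1) * 2 ^ (L + 1) := this
        _ = _ := by rw [← pow_add]; ring_nf
    have hV2 : 2 ≤ Nat.card V := Finite.one_lt_card
    have key := cyclic_normal hsol hirr hp.out hp64 hord (by rw [hzp]; exact hZn)
    simp only [hzp, ← ho] at key
    rcases key with ⟨hA, h2o⟩ | ⟨C, hA, hC, h4o⟩
    · by_contra hbad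
      have h1 := crit hx hA hV2
      have h2 := hpk (by omega)
      have h3 : 0 < o * o := Nat.mul_pos (by omega) (by omega)
      have h4 : 9 * L * L * (2 * 2 ^ o) < 2 ^ (2 * L + 2) * (o * o) := by
        calc 9 * L * L * (2 * 2 ^ o) ≤ 9 * L * L * (2 * Nat.card V) := by gcongr
          _ ≤ 9 * L * L * (o * o * ((k + x) * (k + x))) := Nat.mul_le_mul_left _ h1
          _ = 9 * L * L * ((k + x) * (k + x)) * (o * o) := by ring
          _ < 2 ^ (2 * L + 2) * (o * o) := Nat.mul_lt_mul_of_pos_right h2 h3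
      have h5 := key_abelian hL ho'
      rw [show 2 * L + 2 = 2 * L + 1 + 1 by ring, pow_succ] at h4
      nlinarith
    · by_contra hbad
      have h1 := crit hx hA hV2
      have h2 := hpk (by omega)
      have h18 : 18 * Nat.card V ≤ (9 * C) * ((o * o) * ((k + x) * (k + x))) := by
        calc 18 * Nat.card V = 9 * (2 * Nat.card V) := by ring
          _ ≤ 9 * (C * (o * o) * ((k + x) * (k + x))) := Nat.mul_le_mul_left _ h1
          _ = _ := by ring
      have hcube : 5832 * Nat.card V ≤ ((o * o) * ((k + x) * (k + x))) ^ 3 := by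
        refine Nat.le_of_mul_le_mul_left ?_ (show 0 < Nat.card V ^ 2 by positivity)
        calc Nat.card V ^ 2 * (5832 * Nat.card V) = (18 * Nat.card V) ^ 3 := by ring
          _ ≤ ((9 * C) * ((o * o) * ((k + x) * (k + x)))) ^ 3 := Nat.pow_le_pow_left h18 3
          _ = (9 * C) ^ 3 * ((o * o) * ((k + x) * (k + x))) ^ 3 := mul_pow _ _ _
          _ ≤ _ := Nat.mul_le_mul_right _ hC
      have h6 : 729 * L ^ 6 * (5832 * 4 ^ o) < 2 ^ (6 * L + 6) * o ^ 6 := by
        calc 729 * L ^ 6 * (5832 * 4 ^ o) ≤ 729 * L ^ 6 * (5832 * Nat.card V) := by gcongr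
          _ ≤ 729 * L ^ 6 * ((o * o) * ((k + x) * (k + x))) ^ 3 := Nat.mul_le_mul_left _ hcube
          _ = (9 * L * L * ((k + x) * (k + x))) ^ 3 * o ^ 6 := by ring
          _ < (2 ^ (2 * L + 2)) ^ 3 * o ^ 6 :=
              Nat.mul_lt_mul_of_pos_right (Nat.pow_lt_pow_left h2 (by norm_num)) (pow_pos (by omega) 6)
          _ = _ := by rw [← pow_mul]; ring_nf
      exact absurd (key_nonabelian hL ho') h6.not_ge
  · -- a noncyclic minimal normal subgroup
    letI : CommGroup Z0 := { (inferInstance : Group Z0) with mul_comm := mul_comm' }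
    obtain ⟨φ, -, -, hHirr, hidx, hHsol, hkH⟩ := exists_linear_hom Z0 hZmin
    haveI : Nontrivial (Additive Z0) := by
      rw [← Finite.one_lt_card_iff_nontrivial, Nat.card_congr Additive.toMul, ha]
      exact Nat.one_lt_pow (by omega) hp.out.one_lt
    letI : Module (ZMod p) (Additive Z0) := AddCommGroup.zmodModule (n := p) fun y =>
      Additive.toMul.injective (Subtype.ext (by simpa using hexp _ y.toMul.2))
    let sc : (ZMod p)ˣ →* (AddMonoid.End (Additive Z0))ˣ :=
      Units.map (Module.toAddMonoidEnd (ZMod p) (Additive Z0)).toMonoidHom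
    have hcancel : ∀ (v : Additive Z0), v ≠ 0 → ∀ c c' : ZMod p, c • v = c' • v → c = c' := by
      intro v hv c c' e
      by_contra hne
      apply hv
      have h0 : (c - c') • v = 0 := by rw [sub_smul, e, sub_self]
      rw [← one_smul (ZMod p) v, ← inv_mul_cancel₀ (sub_ne_zero.mpr hne), mul_smul, h0, smul_zero]
    have hsc_apply : ∀ (c : (ZMod p)ˣ) (v : Additive Z0),
        (sc c : AddMonoid.End (Additive Z0)) v = (c : ZMod p) • v := fun _ _ => rfl
    have hsc : Function.Injective sc := by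
      intro c c' e
      obtain ⟨v, hv⟩ := exists_ne (0 : Additive Z0)
      refine Units.ext (hcancel v hv _ _ ?_)
      show (c : ZMod p) • v = (c' : ZMod p) • v
      rw [← hsc_apply, ← hsc_apply, e]
    have hcomm : ∀ (c : (ZMod p)ˣ) (f : (AddMonoid.End (Additive Z0))ˣ), sc c * f = f * sc c := by
      intro c f
      refine Units.ext (AddMonoidHom.ext fun v => ?_)
      show (c : ZMod p) • (f : AddMonoid.End (Additive Z0)) v = (f : AddMonoid.End (Additive Z0)) ((c : ZMod p) • v)
      exact (ZMod.map_smul (f : Additive Z0 →+ Additive Z0) _ _).symm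
    obtain ⟨g, hg⟩ := IsCyclic.exists_generator (α := (ZMod p)ˣ)
    have hgord : orderOf g = p - 1 := by
      rw [orderOf_eq_card_of_forall_mem_zpowers hg, Nat.card_units, Nat.card_zmod]
    let ψ : φ.range × (ZMod p)ˣ →* (AddMonoid.End (Additive Z0))ˣ :=
      φ.range.subtype.noncommCoprod sc fun a c => (hcomm c a).symm
    haveI := hHsol inferInstance
    have hH'sol : Group.IsSolvable ψ.range := Group.isSolvable_of_surjective ψ.rangeRestrict_surjective
    have hle : φ.range ≤ ψ.range := fun y hy => ⟨(⟨y, hy⟩, 1), by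
      show φ.range.subtype ⟨y, hy⟩ * sc 1 = y
      rw [map_one, mul_one]
      rfl⟩
    have hH'irr : IsIrr ψ.range (Additive Z0) := fun U hU =>
      hHirr U fun b v hv => hU ⟨b, hle b.2⟩ v hv
    haveI : Finite ψ.range := Finite.of_injective _ Subtype.val_injective
    let w : ψ.range := ⟨sc g, (1, g), by
      show φ.range.subtype 1 * sc g = sc g
      rw [map_one, one_mul]⟩
    have hwpow : ∀ j : ℕ, w ^ j = 1 ↔ g ^ j = 1 := by
      intro j
      rw [← Subtype.coe_inj, SubmonoidClass.coe_pow, OneMemClass.coe_one, ← map_pow, map_eq_one_iff _ hsc]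
    have hcent : HasCentral ψ.range (p - 1) := by
      refine ⟨w, Subgroup.mem_center_iff.mpr fun y => Subtype.ext (hcomm g y).symm,
        (orderOf_eq_orderOf_iff.mpr hwpow).trans hgord, fun j hj v hv e => hj ((hwpow j).mpr ?_)⟩
      refine Units.ext (hcancel v hv _ _ ?_)
      show ((g ^ j : (ZMod p)ˣ) : ZMod p) • v = ((1 : (ZMod p)ˣ) : ZMod p) • v
      rw [← hsc_apply, map_pow, Units.val_one, one_smul]
      exact e
    obtain ⟨C, d, hC, hCd, hd⟩ := bound (by omega) ψ.range hH'sol hH'irr hcent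
    have hCH : CPB φ.range C :=
      cpb_of_injective (Subgroup.inclusion hle) (Subgroup.inclusion_injective hle) hC
    rw [Nat.sub_add_cancel hp.out.one_le, Nat.card_congr Additive.toMul, ha] at hd
    have hda : d ≤ a := (Nat.pow_le_pow_iff_right hp.out.one_lt).mp hd
    have hpa : 2 ≤ p ^ a := Nat.one_lt_pow (by omega) hp.out.one_lt
    have h1 := crit (by rw [ha, hidx] at hx0; exact hx0) hCH hpa
    have hkle : Nat.card (ConjClasses φ.range) + x0 ≤ k := by omega
    have h18 : 18 * p ^ a ≤ 16 ^ a * (k * k) := by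
      calc 18 * p ^ a = 9 * (2 * p ^ a) := by ring
        _ ≤ 9 * (C * ((Nat.card (ConjClasses φ.range) + x0) * (Nat.card (ConjClasses φ.range) + x0))) :=
            Nat.mul_le_mul_left _ h1
        _ = 9 * C * ((Nat.card (ConjClasses φ.range) + x0) * (Nat.card (ConjClasses φ.range) + x0)) := by ring
        _ ≤ 16 ^ a * (k * k) :=
            Nat.mul_le_mul (hCd.trans (Nat.pow_le_pow_right (by norm_num) hda)) (Nat.mul_le_mul hkle hkle)
    have h2 : 18 * p ^ 2 ≤ 256 * (k * k) := by
      obtain ⟨b, rfl⟩ := Nat.exists_eq_add_of_le' ha2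
      refine Nat.le_of_mul_le_mul_left ?_ (show 0 < 16 ^ b by positivity)
      calc 16 ^ b * (18 * p ^ 2) ≤ p ^ b * (18 * p ^ 2) := by gcongr; omega
        _ = 18 * p ^ (b + 2) := by ring
        _ ≤ 16 ^ (b + 2) * (k * k) := h18
        _ = _ := by ring
    refine le_trans ?_ (Nat.mul_le_mul_left _ (Nat.le_add_right k x))
    refine (Nat.pow_le_pow_iff_left (n := 2) (by norm_num)).mp ?_
    have h36 : 36 ≤ L * L := Nat.mul_le_mul hL hL
    calc p ^ 2 ≤ 15 * (k * k) := by
          generalize p ^ 2 = y at h2 ⊢; generalize k * k = y' at h2 ⊢; omega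
      _ ≤ 9 * (L * L) * (k * k) := by gcongr; omega
      _ = (3 * L * k) ^ 2 := by ring

/-- The primes below sixty four. -/
theorem small_prime {p k : ℕ} (hp : p.Prime) (hp64 : p < 64) (hk : 2 ≤ k) (h3 : k ≤ 3 → p ≤ 6)
    (h4 : k ≤ 4 → p ≤ 42) : p ≤ 3 * Nat.log 2 p * k := by
  have h2 := hp.two_le
  have hlog : ∀ j, 2 ^ j ≤ p → j ≤ Nat.log 2 p := fun j hj =>
    (Nat.le_log_iff_pow_le (by norm_num) (by omega)).mpr hj
  have hlog0 := hlog 1 (by omega)
  rcases Nat.lt_or_ge p 7 with h | h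
  · calc p ≤ 3 * 1 * 2 := by omega
      _ ≤ _ := Nat.mul_le_mul (Nat.mul_le_mul_left _ hlog0) hk
  have hk4 : 4 ≤ k := by by_contra hh; have := h3 (by omega); omega
  rcases Nat.lt_or_ge p 16 with h16 | h16
  · calc p ≤ 3 * 2 * 4 := by omega
      _ ≤ _ := Nat.mul_le_mul (Nat.mul_le_mul_left _ (hlog 2 (by omega))) hk4
  rcases Nat.lt_or_ge p 32 with h32 | h32
  · calc p ≤ 3 * 4 * 4 := by omega
      _ ≤ _ := Nat.mul_le_mul (Nat.mul_le_mul_left _ (hlog 4 (by omega))) hk4
  rcases Nat.lt_or_ge k 5 with h5 | h5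
  · calc p ≤ 3 * 5 * 4 := by have := h4 (by omega); omega
      _ ≤ _ := Nat.mul_le_mul (Nat.mul_le_mul_left _ (hlog 5 (by omega))) hk4
  · calc p ≤ 3 * 5 * 5 := by omega
      _ ≤ _ := Nat.mul_le_mul (Nat.mul_le_mul_left _ (hlog 5 (by omega))) h5

/-- The bound on the class number. -/
theorem solvable_bound {p : ℕ} [hp : Fact p.Prime] : ∀ (n : ℕ) (G : Type u) [Group G] [Finite G],
    Group.IsSolvable G → Nat.card G ≤ n → p ∣ (Cfsg.fittingSubgroup G).index →
    p ≤ 3 * Nat.log 2 p * Nat.card (ConjClasses G) := by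
  intro n
  induction n with
  | zero => intro G _ _ _ h; have : 0 < Nat.card G := Nat.card_pos; omega
  | succ n IH =>
    intro G _ _ hsol hn hdvd
    classical
    haveI := hsol
    have hdG : p ∣ Nat.card G := hdvd.trans (Subgroup.index_dvd_card _)
    have hnt : Nontrivial G := Finite.one_lt_card_iff_nontrivial.mp
      (hp.out.one_lt.trans_le (Nat.le_of_dvd Nat.card_pos hdG))
    rcases Nat.lt_or_ge p 64 with hp64 | hp64
    · refine small_prime hp.out hp64 ?_ (fun h => ?_) fun h => ?_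
      · obtain ⟨g, hg⟩ := exists_ne (1 : G)
        refine Finite.one_lt_card_iff_nontrivial.mpr ⟨⟨ConjClasses.mk g, ConjClasses.mk 1, fun e => hg ?_⟩⟩
        exact isConj_one_left.mp (ConjClasses.mk_eq_mk_iff_isConj.mp e)
      · exact (Nat.le_of_dvd Nat.card_pos hdG).trans (card_le_of_classes_three G h)
      · exact (Nat.le_of_dvd Nat.card_pos hdG).trans (card_le_of_classes_four G h)
    obtain ⟨N, hNn, hN0, -, hNmin⟩ := exists_minimal_normal_le (N := (⊤ : Subgroup G)) top_ne_bot
    haveI := hNn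
    obtain ⟨hab, r, hr, hexp⟩ := minimal_normal_solvable (N := N) inferInstance hN0 hNmin
    haveI := hab
    by_cases hq : p ∣ (Cfsg.fittingSubgroup (G ⧸ N)).index
    · refine (IH (G ⧸ N) (Group.isSolvable_of_surjective (QuotientGroup.mk'_surjective N)) ?_ hq).trans
        (Nat.mul_le_mul_left _ (card_classes_quotient_le N))
      have := card_quotient_lt hN0
      omega
    let P : Sylow p G := default
    let Pb : Sylow p (G ⧸ N) := P.mapSurjective (QuotientGroup.mk'_surjective N)
    haveI hFn : (Cfsg.fittingSubgroup (G ⧸ N)).Normal := fittingSubgroup_isNormal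
    have hPF : (Pb : Subgroup (G ⧸ N)) ≤ Cfsg.fittingSubgroup (G ⧸ N) :=
      le_of_coprime_index Pb.isPGroup' hq
    have hPbn : (Pb : Subgroup (G ⧸ N)).Normal := normal_of_le_nilpotent hFn
      fittingSubgroup_isNilpotent Pb hPF
    set M := (P : Subgroup G) ⊔ N with hM
    have hMn : M.Normal := by
      have : M = ((Pb : Subgroup (G ⧸ N))).comap (QuotientGroup.mk' N) := by
        rw [Sylow.coe_mapSurjective, Subgroup.comap_map_eq, QuotientGroup.ker_mk']
      rw [this]
      exact hPbn.comap _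
    have hPnn : ¬ (P : Subgroup G).Normal := by
      intro hPn
      have hle : (P : Subgroup G) ≤ Cfsg.fittingSubgroup G :=
        le_fittingSubgroup hPn P.isPGroup'.isNilpotent
      exact P.not_dvd_index (hdvd.trans (Subgroup.index_dvd_of_le hle))
    have hPC : ¬ (P : Subgroup G) ≤ Subgroup.centralizer (N : Set G) := by
      intro hc
      refine hPnn ⟨fun y hy g => ?_⟩
      have hgy : g * y * g⁻¹ ∈ M := hMn.conj_mem y (Subgroup.mem_sup_left hy) g
      exact mem_of_mem_sup_centralizing P N hc hgy (by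
        obtain ⟨j, hj⟩ := P.isPGroup' ⟨y, hy⟩
        refine ⟨j, ?_⟩
        rw [conj_pow, show y ^ p ^ j = 1 from congrArg Subtype.val hj, mul_one, mul_inv_cancel])
    letI : CommGroup N := { (inferInstance : Group N) with mul_comm := mul_comm' }
    obtain ⟨φ, -, hker, hirr, hidx, hAsol, hkA⟩ := exists_linear_hom N hNmin
    haveI : Nontrivial (Additive N) := by
      rw [← Finite.one_lt_card_iff_nontrivial, Nat.card_congr Additive.toMul]
      rw [Finite.one_lt_card_iff_nontrivial, Subgroup.nontrivial_iff_ne_bot]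
      exact hN0
    let Q : Subgroup φ.range := (P : Subgroup G).map φ.rangeRestrict
    have hQ : Q = M.map φ.rangeRestrict := by
      rw [hM, Subgroup.map_sup, eq_comm, sup_eq_left]
      have : N.map φ.rangeRestrict = ⊥ := by
        rw [Subgroup.map_eq_bot_iff, MonoidHom.ker_rangeRestrict, hker]
        exact Subgroup.le_centralizer N
      rw [this]
      exact bot_le
    haveI : Q.Normal := hQ ▸ hMn.map _ φ.rangeRestrict_surjective
    have hQ0 : Q ≠ ⊥ := by
      rw [Ne, Subgroup.map_eq_bot_iff, MonoidHom.ker_rangeRestrict, hker]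
      exact hPC
    obtain ⟨x, hxk, hxN⟩ := exists_classes_bound N
    rw [hidx] at hxN
    have := linear_core φ.range (hAsol hsol) hirr hp64 Q (P.isPGroup'.map _) hQ0 (x := x) (by
      rw [Nat.card_congr Additive.toMul]; exact hxN)
    refine this.trans (Nat.mul_le_mul_left _ ?_)
    omega
where
  le_of_coprime_index {H : Type u} [Group H] [Finite H] {F R : Subgroup H} [F.Normal]
      (hR : IsPGroup p R) (hF : ¬ p ∣ F.index) : R ≤ F := by
    intro y hy
    obtain ⟨j, hj⟩ := hR ⟨y, hy⟩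
    have hj' : y ^ p ^ j = 1 := congrArg Subtype.val hj
    rw [← QuotientGroup.eq_one_iff (N := F), ← orderOf_eq_one_iff]
    have h1 : orderOf (QuotientGroup.mk' F y) ∣ p ^ j :=
      orderOf_dvd_of_pow_eq_one (by rw [← map_pow, hj', map_one])
    have h2 : orderOf (QuotientGroup.mk' F y) ∣ F.index := orderOf_dvd_natCard _
    exact Nat.eq_one_of_dvd_coprimes ((hp.out.coprime_iff_not_dvd.mpr hF).pow_left j) h1 h2
  normal_of_le_nilpotent {H : Type u} [Group H] [Finite H] {F : Subgroup H} (hFn : F.Normal)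
      (hnil : Group.IsNilpotent F) (R : Sylow p H) (hR : (R : Subgroup H) ≤ F) :
      (R : Subgroup H).Normal := by
    haveI := hFn; haveI := hnil
    let S : Sylow p F := R.subtype hR
    have htfae := (Group.isNilpotent_of_finite_tfae (G := F)).out 0 3
    haveI hSn : (S : Subgroup F).Normal := htfae.mp hnil p hp S
    haveI := S.characteristic_of_normal hSn
    have := normal_of_characteristic_map (N := F) (S : Subgroup F)
    rwa [Sylow.coe_subtype, Subgroup.map_subgroupOf_eq_of_le hR] at this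
  mem_of_mem_sup_centralizing {H : Type u} [Group H] [Finite H] (R : Sylow p H) (N : Subgroup H)
      [N.Normal] (hc : (R : Subgroup H) ≤ Subgroup.centralizer (N : Set H)) {y : H}
      (hy : y ∈ (R : Subgroup H) ⊔ N) (hy' : ∃ j : ℕ, y ^ p ^ j = 1) : y ∈ (R : Subgroup H) := by
    have hnorm : (R : Subgroup H) ⊔ N ≤ Subgroup.normalizer ((R : Subgroup H) : Set H) := by
      refine sup_le Subgroup.le_normalizer fun m hm => ?_
      rw [Subgroup.mem_normalizer_iff]
      intro t
      constructor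
      · intro ht
        have : m * t = t * m := (Subgroup.mem_centralizer_iff.mp (hc ht)) m hm
        rwa [this, mul_inv_cancel_right]
      · intro ht
        have : m * (m * t * m⁻¹) = (m * t * m⁻¹) * m := (Subgroup.mem_centralizer_iff.mp (hc ht)) m hm
        have e : m * t * m⁻¹ = t := by
          have e2 : m * (m * t * m⁻¹) = m * t := by rw [this]; group
          exact mul_left_cancel e2
        rwa [e] at ht
    obtain ⟨j, hj⟩ := hy'
    have hpg : IsPGroup p (Subgroup.zpowers y) := IsPGroup.of_card_dvd_pow (p := p) (n := j)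
      (by rw [Nat.card_zpowers]; exact orderOf_dvd_of_pow_eq_one hj)
    exact R.is_maximal' (hpg.to_sup_of_normal_right' R.isPGroup'
      (Subgroup.zpowers_le.mpr (hnorm hy))) le_sup_right ▸ Subgroup.mem_sup_left (Subgroup.mem_zpowers y)

end Cfsg.Agent.ClassLinear
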