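import Cfsg.Agent.Lib.Grp.ClassLinear.ClassBound
import Cfsg.Agent.Lib.Grp.SqClass.SmallBounds

/-!
# Splitting a module into two invariant parts
-/

set_option autoImplicit false
set_option linter.style.haveILetI false

universe u

namespace Cfsg.Agent.ClassLinear

open SqClass BaseTwo

variable {A V : Type u} [Group A] [AddCommGroup V] [Finite V] [DistribMulAction A V] [FaithfulSMul A V]

/-- What a nontrivial decomposition gives. -/
theorem exists_split (hcr : IsCR A V) (hred : ¬ IsIrr A V) :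
    ∃ (U W : Type u) (_ : AddCommGroup U) (_ : Finite U) (_ : Nontrivial U) (_ : AddCommGroup W)
      (_ : Finite W) (_ : Nontrivial W) (H : Subgroup (AddMonoid.End U)ˣ) (J : Subgroup (AddMonoid.End W)ˣ)
      (f : A →* H) (g : A →* J) (ι : U →+ V) (κ : W →+ V),
      Nat.card V = Nat.card U * Nat.card W ∧ Function.Injective ι ∧ Function.Injective κ ∧
      (∀ a u, a • ι u = ι (f a • u)) ∧ (∀ a w, a • κ w = κ (g a • w)) ∧
      Function.Surjective f ∧ Function.Surjective g ∧ IsCR H U ∧ IsCR J W ∧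
      Function.Injective (f.prod g) := by
  obtain ⟨U, hU, hU0, hU1⟩ : ∃ U : AddSubgroup V, IsInv A U ∧ U ≠ ⊥ ∧ U ≠ ⊤ := by
    simpa [IsIrr, not_or] using hred
  obtain ⟨W, hW, hinf, hsup⟩ := hcr U hU
  have hW0 : W ≠ ⊥ := fun e => hU1 (by rw [e, sup_bot_eq] at hsup; exact hsup)
  let aU := invAction U hU
  let aW := invAction W hW
  have hcard : Nat.card V = Nat.card U * Nat.card W := by
    rw [← Nat.card_prod]
    refine (Nat.card_eq_of_bijective (fun z : U × W => (z.1 : V) + z.2) ⟨?_, ?_⟩).symm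
    · rintro ⟨a, b⟩ ⟨c, d⟩ h
      have e : (a : V) - c = d - b := sub_eq_sub_iff_add_eq_add.mpr (h.trans (add_comm _ _))
      have : (a : V) - c ∈ U ⊓ W := ⟨U.sub_mem a.2 c.2, e ▸ W.sub_mem d.2 b.2⟩
      rw [hinf, AddSubgroup.mem_bot] at this
      refine Prod.ext (Subtype.ext (sub_eq_zero.mp this)) (Subtype.ext ?_)
      rw [this, eq_comm, sub_eq_zero] at e
      exact e.symm
    · intro v
      obtain ⟨y, hy, z, hz, rfl⟩ := AddSubgroup.mem_sup.mp (show v ∈ U ⊔ W by rw [hsup]; trivial)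
      exact ⟨(⟨y, hy⟩, ⟨z, hz⟩), rfl⟩
  refine ⟨U, W, inferInstance, inferInstance, (AddSubgroup.nontrivial_iff_ne_bot U).mpr hU0, inferInstance,
    inferInstance, (AddSubgroup.nontrivial_iff_ne_bot W).mpr hW0, (@linHom A U _ _ aU).range,
    (@linHom A W _ _ aW).range, (@linHom A U _ _ aU).rangeRestrict, (@linHom A W _ _ aW).rangeRestrict,
    U.subtype, W.subtype, hcard, Subtype.val_injective, Subtype.val_injective, fun a u => rfl,
    fun a w => rfl, MonoidHom.rangeRestrict_surjective _, MonoidHom.rangeRestrict_surjective _,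
    @isCR_range A U _ _ aU (isCR_invAction hcr U hU), @isCR_range A W _ _ aW (isCR_invAction hcr W hW), ?_⟩
  intro a b h
  refine eq_of_smul_eq_smul fun v : V => ?_
  obtain ⟨y, hy, z, hz, rfl⟩ := AddSubgroup.mem_sup.mp (show v ∈ U ⊔ W by rw [hsup]; trivial)
  rw [smul_add, smul_add]
  congr 1
  · exact congrArg (fun t => ((((t.1 : (AddMonoid.End U)ˣ) : AddMonoid.End U) ⟨y, hy⟩ : U) : V)) h
  · exact congrArg (fun t => ((((t.2 : (AddMonoid.End W)ˣ) : AddMonoid.End W) ⟨z, hz⟩ : W) : V)) h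

end Cfsg.Agent.ClassLinear
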